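import Groth.Agent.H98.SegreFinite

set_option autoImplicit false
universe u

namespace Groth.Agent.H98

open scoped TensorProduct

theorem act_self_eq_mul {k : Type u} [CommRing k] {R S : Type u} [CommRing R] [CommRing S]
    [Algebra k R] [Algebra k S] (a b : R ⊗[k] S) :
    GrSeg.act k R S R S a b = a * b := by
  induction a using TensorProduct.induction_on with
  | zero => simp
  | add x y hx hy => rw [map_add, LinearMap.add_apply, hx, hy, add_mul]
  | tmul r s =>
    induction b using TensorProduct.induction_on with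
    | zero => simp
    | add x y hx hy => rw [map_add, hx, hy, mul_add]
    | tmul r' s' =>
      rw [GrSeg.act_tmul, Algebra.TensorProduct.tmul_mul_tmul, smul_eq_mul, smul_eq_mul]

theorem segre_ring_isNoetherian {k : Type u} [Field k] {R S T : Type u} [CommRing R] [CommRing S]
    [CommRing T] [Algebra k R] [Algebra k S] [Algebra k T]
    (𝒜 : ℤ → Submodule k R) [GradedAlgebra 𝒜] (ℬ : ℤ → Submodule k S) [GradedAlgebra ℬ]
    (𝒯 : ℤ → Submodule k T) [GradedAlgebra 𝒯] (ψ : T →ₐ[k] R ⊗[k] S)
    (hT : GrSeg.IsSegreRing 𝒜 ℬ 𝒯 ψ)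
    [Algebra.FiniteType k R] [Algebra.FiniteType k S] : IsNoetherianRing T := by
  have hP : GrSeg.IsSegreMod ψ 𝒜 ℬ 𝒯 ψ.toLinearMap := by
    refine ⟨hT.1, ?_, ?_⟩
    · intro n
      have := hT.2 n
      rw [← this]
      rfl
    · intro t p
      change ψ (t * p) = _
      rw [map_mul]
      exact (act_self_eq_mul _ _).symm
  exact segre_isNoetherian 𝒜 ℬ 𝒯 ψ hT 𝒜 ℬ 𝒯 ψ.toLinearMap hP

end Groth.Agent.H98
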