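import Groth.Agent.H98.SegreFinite
import Groth.Prelude.Def_GrLC
import Mathlib.LinearAlgebra.FiniteDimensional.Defs
import Mathlib.RingTheory.Noetherian.Basic

set_option autoImplicit false
universe u

namespace Groth.Agent.H98

section Pieces

variable {k : Type u} [Field k] {R : Type u} [CommRing R] [Algebra k R]
  (𝒜 : ℤ → Submodule k R) [GradedAlgebra 𝒜]
  {M : Type u} [AddCommGroup M] [Module R M] [Module k M] [IsScalarTower k R M]
  (ℳ : ℤ → AddSubgroup M) [DirectSum.Decomposition ℳ] [SetLike.GradedSMul 𝒜 ℳ]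

/-- the `n`-th piece as a `k`-subspace -/
def pieceSub (n : ℤ) : Submodule k M where
  carrier := ℳ n
  add_mem' := (ℳ n).add_mem
  zero_mem' := (ℳ n).zero_mem
  smul_mem' c _ hx := smul_mem_piece 𝒜 ℳ c n _ hx

theorem mem_pieceSub {n : ℤ} {x : M} : x ∈ pieceSub 𝒜 ℳ n ↔ x ∈ ℳ n := Iff.rfl

/-- the graded projection -/
noncomputable abbrev gp (n : ℤ) : M →ₗ[k] M := gproj ℳ (smul_mem_piece 𝒜 ℳ) n

variable (hpos : ∀ n : ℤ, n < 0 → 𝒜 n = ⊥)

include hpos in
/-- elements with no components in degrees `< n` form an `R`-submodule -/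
theorem smul_mem_ge (n : ℤ) (r : R) (x : M)
    (hx : ∀ m < n, (DirectSum.decompose ℳ x m : M) = 0) :
    ∀ m < n, (DirectSum.decompose ℳ (r • x) m : M) = 0 := by
  induction r using DirectSum.Decomposition.inductionOn 𝒜 with
  | zero => intro m _; simp
  | @homogeneous j r =>
    intro m hm
    by_cases hj : j < 0
    · have : (r : R) = 0 := by
        have h : (r : R) ∈ 𝒜 j := r.2
        have h' : (r : R) ∈ (⊥ : Submodule k R) := (hpos j hj) ▸ h
        exact (Submodule.mem_bot k).mp h'
      rw [this, zero_smul]; simp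
    · have hsh := decompose_map_shift ℳ ℳ (DistribSMul.toAddMonoidHom M (r : R)) j
        (fun i w hw => by
          have := SetLike.GradedSMul.smul_mem (A := 𝒜) (B := ℳ) r.2 hw
          rw [vadd_eq_add, add_comm] at this
          exact this) x (m - j)
      rw [sub_add_cancel] at hsh
      have e : (DistribSMul.toAddMonoidHom M (r : R)) x = (r : R) • x := rfl
      rw [e] at hsh
      rw [hsh, hx (m - j) (by omega)]
      exact map_zero _
  | add r r' hr hr' =>
    intro m hm
    rw [add_smul, DirectSum.decompose_add, DirectSum.add_apply, AddSubgroup.coe_add, hr m hm,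
      hr' m hm, add_zero]

/-- the `R`-submodule `M_{≥ n}` -/
def geSub (n : ℤ) : Submodule R M where
  carrier := {x | ∀ m < n, (DirectSum.decompose ℳ x m : M) = 0}
  add_mem' := by
    intro a b ha hb m hm
    rw [DirectSum.decompose_add, DirectSum.add_apply, AddSubgroup.coe_add, ha m hm, hb m hm, add_zero]
  zero_mem' := by intro m _; simp
  smul_mem' r x hx := smul_mem_ge 𝒜 ℳ hpos n r x hx

theorem mem_geSub {n : ℤ} {x : M} :
    x ∈ geSub 𝒜 ℳ hpos n ↔ ∀ m < n, (DirectSum.decompose ℳ x m : M) = 0 := Iff.rfl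

theorem piece_le_geSub {n : ℤ} {x : M} (hx : x ∈ ℳ n) : x ∈ geSub 𝒜 ℳ hpos n := by
  intro m hm
  rw [DirectSum.decompose_of_mem_ne ℳ hx (by omega)]

include hpos in
/-- the degree-`n` component of `r • z` for `z ∈ M_{≥ n}` -/
theorem gp_smul_of_mem_ge (n : ℤ) (r : R) (z : M) (hz : z ∈ geSub 𝒜 ℳ hpos n) :
    gp 𝒜 ℳ n (r • z) = ((DirectSum.decompose 𝒜 r 0 : 𝒜 0) : R) • gp 𝒜 ℳ n z := by
  induction r using DirectSum.Decomposition.inductionOn 𝒜 with
  | zero => simp
  | @homogeneous j r =>
    by_cases hj : j < 0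
    · have : (r : R) = 0 := by
        have h : (r : R) ∈ 𝒜 j := r.2
        have h' : (r : R) ∈ (⊥ : Submodule k R) := (hpos j hj) ▸ h
        exact (Submodule.mem_bot k).mp h'
      rw [this, zero_smul]; simp
    · have hsh := decompose_map_shift ℳ ℳ (DistribSMul.toAddMonoidHom M (r : R)) j
        (fun i w hw => by
          have := SetLike.GradedSMul.smul_mem (A := 𝒜) (B := ℳ) r.2 hw
          rw [vadd_eq_add, add_comm] at this
          exact this) z (n - j)
      rw [sub_add_cancel] at hsh
      have e : (DistribSMul.toAddMonoidHom M (r : R)) z = (r : R) • z := rfl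
      rw [e] at hsh
      rw [gproj_apply, hsh]
      by_cases hj0 : j = 0
      · subst hj0
        rw [DirectSum.decompose_of_mem_same 𝒜 r.2, sub_zero]
        rfl
      · rw [DirectSum.decompose_of_mem_ne 𝒜 r.2 hj0, zero_smul, hz (n - j) (by omega)]
        exact map_zero _
  | add r r' hr hr' =>
    rw [add_smul, map_add, hr, hr', DirectSum.decompose_add, DirectSum.add_apply,
      Submodule.coe_add, add_smul]

include hpos in
/-- pieces of a finitely generated graded module over a Noetherian graded ring with `R_0 = k` are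
finite-dimensional -/
theorem finite_pieceSub (h0 : 𝒜 0 = Submodule.span k {(1 : R)}) [IsNoetherianRing R]
    [Module.Finite R M] (n : ℤ) : Module.Finite k (pieceSub 𝒜 ℳ n) := by
  haveI : IsNoetherian R M := isNoetherian_of_isNoetherianRing_of_finite R M
  obtain ⟨Z, hZ⟩ := (IsNoetherian.noetherian (geSub 𝒜 ℳ hpos n))
  have hle : pieceSub 𝒜 ℳ n ≤ Submodule.span k ((gp 𝒜 ℳ n) '' (Z : Set M)) := by
    intro y hy
    have hyZ : y ∈ Submodule.span R (Z : Set M) := by
      rw [hZ]; exact piece_le_geSub 𝒜 ℳ hpos hy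
    have key : ∀ w ∈ Submodule.span R (Z : Set M),
        gp 𝒜 ℳ n w ∈ Submodule.span k ((gp 𝒜 ℳ n) '' (Z : Set M)) := by
      intro w hw
      induction hw using Submodule.span_induction with
      | mem w hw => exact Submodule.subset_span ⟨w, hw, rfl⟩
      | zero => rw [map_zero]; exact Submodule.zero_mem _
      | add a b _ _ ha hb => rw [map_add]; exact Submodule.add_mem _ ha hb
      | smul r w hw hq =>
        have hwge : w ∈ geSub 𝒜 ℳ hpos n := by rw [← hZ]; exact hw
        rw [gp_smul_of_mem_ge 𝒜 ℳ hpos n r w hwge]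
        have hr0 : ((DirectSum.decompose 𝒜 r 0 : 𝒜 0) : R) ∈ Submodule.span k {(1 : R)} := by
          rw [← h0]; exact SetLike.coe_mem _
        obtain ⟨c, hc⟩ := Submodule.mem_span_singleton.mp hr0
        rw [← hc, smul_assoc, one_smul]
        exact Submodule.smul_mem _ c hq
    have := key y hyZ
    rwa [gproj_of_mem_same ℳ _ hy] at this
  haveI : Module.Finite k (Submodule.span k ((gp 𝒜 ℳ n) '' (Z : Set M))) :=
    Module.Finite.span_of_finite k ((Z.finite_toSet).image _)
  exact Module.Finite.of_injective (Submodule.inclusion hle) (Submodule.inclusion_injective hle)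

end Pieces

end Groth.Agent.H98
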