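import Groth.Prelude.Def_GrSeg
import Mathlib.Algebra.DirectSum.Decomposition
import Mathlib.Algebra.Module.GradedModule

set_option autoImplicit false
universe u

namespace Groth.Agent.H98

open scoped TensorProduct

section Decomp

variable {M M' : Type*} [AddCommGroup M] [AddCommGroup M']
  {σ σ' : Type*} [SetLike σ M] [AddSubmonoidClass σ M] [SetLike σ' M'] [AddSubmonoidClass σ' M']
  (ℳ : ℤ → σ) (ℳ' : ℤ → σ')
  [DirectSum.Decomposition ℳ] [DirectSum.Decomposition ℳ']

/-- an additive map homogeneous of degree `c` commutes with taking components -/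
theorem decompose_map_shift (h : M →+ M') (c : ℤ) (hh : ∀ i, ∀ x ∈ ℳ i, h x ∈ ℳ' (i + c))
    (z : M) (i : ℤ) :
    (DirectSum.decompose ℳ' (h z) (i + c) : M') = h (DirectSum.decompose ℳ z i : M) := by
  induction z using DirectSum.Decomposition.inductionOn ℳ with
  | zero => simp
  | @homogeneous j m =>
    have hm : h (m : M) ∈ ℳ' (j + c) := hh j m m.2
    by_cases hji : j = i
    · subst hji
      rw [DirectSum.decompose_of_mem_same ℳ' hm, DirectSum.decompose_coe, DirectSum.of_eq_same]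
    · have hne : j + c ≠ i + c := fun h' => hji (by omega)
      rw [DirectSum.decompose_of_mem_ne ℳ' hm hne, DirectSum.decompose_coe,
        DirectSum.of_eq_of_ne _ _ _ (Ne.symm hji)]
      simp
  | add m m' hm hm' =>
    simp only [map_add, DirectSum.decompose_add, DirectSum.add_apply, AddMemClass.coe_add, hm, hm']

/-- a surjective homogeneous map of degree `c` is surjective on pieces -/
theorem exists_piece_preimage (h : M →+ M') (c : ℤ) (hh : ∀ i, ∀ x ∈ ℳ i, h x ∈ ℳ' (i + c))
    (hsurj : Function.Surjective h) (n : ℤ) (x : M') (hx : x ∈ ℳ' n) :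
    ∃ x' ∈ ℳ (n - c), h x' = x := by
  obtain ⟨z, rfl⟩ := hsurj x
  refine ⟨(DirectSum.decompose ℳ z (n - c) : M), SetLike.coe_mem _, ?_⟩
  rw [← decompose_map_shift ℳ ℳ' h c hh z (n - c)]
  have : n - c + c = n := by omega
  rw [this, DirectSum.decompose_of_mem_same ℳ' hx]

/-- if `h z` is homogeneous of degree `n + c` then `h z = h z_n` -/
theorem map_eq_map_component (h : M →+ M') (c : ℤ) (hh : ∀ i, ∀ x ∈ ℳ i, h x ∈ ℳ' (i + c))
    (z : M) (n : ℤ) (hz : h z ∈ ℳ' (n + c)) :
    h z = h (DirectSum.decompose ℳ z n : M) := by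
  rw [← decompose_map_shift ℳ ℳ' h c hh z n, DirectSum.decompose_of_mem_same ℳ' hz]

end Decomp


section Segre

variable {k : Type u} [Field k] {R S T : Type u} [CommRing R] [CommRing S] [CommRing T]
  [Algebra k R] [Algebra k S] [Algebra k T]
  {M N P : Type u} [AddCommGroup M] [Module R M] [Module k M] [IsScalarTower k R M]
  [AddCommGroup N] [Module S N] [Module k N] [IsScalarTower k S N]
  [AddCommGroup P] [Module T P] [Module k P] [IsScalarTower k T P]

/-- the action of a pure tensor is the tensor product of the two multiplications -/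
theorem act_tmul_eq_map (r : R) (s : S) :
    GrSeg.act k R S M N (r ⊗ₜ[k] s) =
      TensorProduct.map ((Algebra.lsmul k k M r)) ((Algebra.lsmul k k N s)) := by
  refine TensorProduct.ext' ?_
  intro m n
  rw [GrSeg.act_tmul, TensorProduct.map_tmul]
  rfl

theorem map_lsmul_bijective (r : R) (s : S) (hr : Function.Bijective (fun x : M => r • x))
    (hs : Function.Bijective (fun y : N => s • y)) :
    Function.Bijective (TensorProduct.map ((Algebra.lsmul k k M r)) ((Algebra.lsmul k k N s))) := by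
  let e1 : M ≃ₗ[k] M := LinearEquiv.ofBijective (Algebra.lsmul k k M r) hr
  let e2 : N ≃ₗ[k] N := LinearEquiv.ofBijective (Algebra.lsmul k k N s) hs
  exact (TensorProduct.congr e1 e2).bijective

theorem segre_smul_bijective
    (𝒜 : ℤ → Submodule k R) [GradedAlgebra 𝒜] (ℬ : ℤ → Submodule k S) [GradedAlgebra ℬ]
    (𝒯 : ℤ → Submodule k T) [GradedAlgebra 𝒯] (ψ : T →ₐ[k] R ⊗[k] S)
    (hT : GrSeg.IsSegreRing 𝒜 ℬ 𝒯 ψ)
    (ℳ : ℤ → AddSubgroup M) [DirectSum.Decomposition ℳ] [SetLike.GradedSMul 𝒜 ℳ]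
    (𝒩 : ℤ → AddSubgroup N) [DirectSum.Decomposition 𝒩] [SetLike.GradedSMul ℬ 𝒩]
    (𝒬 : ℤ → AddSubgroup P) [DirectSum.Decomposition 𝒬] (φ : P →ₗ[k] M ⊗[k] N)
    (hP : GrSeg.IsSegreMod ψ ℳ 𝒩 𝒬 φ)
    (c : ℤ) (r : R) (hr : r ∈ 𝒜 c) (hrM : Function.Bijective (fun x : M => r • x))
    (s : S) (hs : s ∈ ℬ c) (hsN : Function.Bijective (fun y : N => s • y)) :
    ∃ t : T, t ∈ 𝒯 c ∧ Function.Bijective (fun p : P => t • p) := by
  -- the element `t`
  have hmem : r ⊗ₜ[k] s ∈ GrSeg.segrePiece k 𝒜 ℬ c :=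
    Submodule.subset_span ⟨r, hr, s, hs, rfl⟩
  rw [← hT.2 c] at hmem
  obtain ⟨t, ht, htψ⟩ := hmem
  have htψ' : ψ t = r ⊗ₜ[k] s := htψ
  refine ⟨t, ht, ?_⟩
  set E := TensorProduct.map ((Algebra.lsmul k k M r)) ((Algebra.lsmul k k N s)) with hE
  have hEbij : Function.Bijective E := map_lsmul_bijective r s hrM hsN
  have key : ∀ p : P, φ (t • p) = E (φ p) := by
    intro p
    rw [hP.map_smul, htψ', act_tmul_eq_map]
  constructor
  · intro p p' h
    apply hP.injective
    apply hEbij.1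
    rw [← key, ← key]
    exact congrArg φ h
  · -- surjectivity
    -- degree-shifting maps
    let hM : M →+ M := (Algebra.lsmul k k M r).toAddMonoidHom
    let hN : N →+ N := (Algebra.lsmul k k N s).toAddMonoidHom
    have hhM : ∀ i, ∀ x ∈ ℳ i, hM x ∈ ℳ (i + c) := by
      intro i x hx
      have := SetLike.GradedSMul.smul_mem (A := 𝒜) (B := ℳ) hr hx
      rw [vadd_eq_add, add_comm] at this
      exact this
    have hhN : ∀ i, ∀ x ∈ 𝒩 i, hN x ∈ 𝒩 (i + c) := by
      intro i x hx
      have := SetLike.GradedSMul.smul_mem (A := ℬ) (B := 𝒩) hs hx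
      rw [vadd_eq_add, add_comm] at this
      exact this
    have piece : ∀ n : ℤ, ∀ w ∈ GrSeg.segrePiece k ℳ 𝒩 n,
        ∃ w' ∈ GrSeg.segrePiece k ℳ 𝒩 (n - c), E w' = w := by
      intro n w hw
      induction hw using Submodule.span_induction with
      | mem w hw =>
        obtain ⟨a, ha, b, hb, rfl⟩ := hw
        obtain ⟨a', ha', haa⟩ := exists_piece_preimage ℳ ℳ hM c hhM hrM.2 n a ha
        obtain ⟨b', hb', hbb⟩ := exists_piece_preimage 𝒩 𝒩 hN c hhN hsN.2 n b hb
        refine ⟨a' ⊗ₜ[k] b', Submodule.subset_span ⟨a', ha', b', hb', rfl⟩, ?_⟩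
        rw [hE, TensorProduct.map_tmul]
        exact congrArg₂ _ haa hbb
      | zero => exact ⟨0, Submodule.zero_mem _, map_zero _⟩
      | add x y _ _ hx hy =>
        obtain ⟨x', hx', rfl⟩ := hx
        obtain ⟨y', hy', rfl⟩ := hy
        exact ⟨x' + y', Submodule.add_mem _ hx' hy', map_add _ _ _⟩
      | smul a x _ hx =>
        obtain ⟨x', hx', rfl⟩ := hx
        exact ⟨a • x', Submodule.smul_mem _ a hx', map_smul _ _ _⟩
    intro p
    induction p using DirectSum.Decomposition.inductionOn 𝒬 with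
    | zero => exact ⟨0, smul_zero t⟩
    | @homogeneous n m =>
      have h1 : φ (m : P) ∈ GrSeg.segrePiece k ℳ 𝒩 n := by
        have : φ (m : P) ∈ φ '' (𝒬 n : Set P) := ⟨m, m.2, rfl⟩
        rw [hP.image_piece n] at this
        exact this
      obtain ⟨w', hw', hEw⟩ := piece n _ h1
      have h2 : w' ∈ φ '' (𝒬 (n - c) : Set P) := by
        rw [hP.image_piece (n - c)]; exact hw'
      obtain ⟨q, -, rfl⟩ := h2
      refine ⟨q, ?_⟩
      apply hP.injective
      change φ (t • q) = φ m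
      rw [key, hEw]
    | add m m' hm hm' =>
      obtain ⟨q, hq⟩ := hm
      obtain ⟨q', hq'⟩ := hm'
      refine ⟨q + q', ?_⟩
      change t • (q + q') = m + m'
      rw [smul_add]
      exact congrArg₂ _ hq hq'

end Segre

end Groth.Agent.H98
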