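import Groth.Agent.H98.Segre
import Mathlib.LinearAlgebra.Basis.VectorSpace

set_option autoImplicit false
universe u

namespace Groth.Agent.H98

open scoped TensorProduct

section Segre

variable {k : Type u} [Field k] {R S T : Type u} [CommRing R] [CommRing S] [CommRing T]
  [Algebra k R] [Algebra k S] [Algebra k T]
  {M N P : Type u} [AddCommGroup M] [Module R M] [Module k M] [IsScalarTower k R M]
  [AddCommGroup N] [Module S N] [Module k N] [IsScalarTower k S N]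
  [AddCommGroup P] [Module T P] [Module k P] [IsScalarTower k T P]

/-- the action of the `i`-th Segre piece of the ring sends the `j`-th Segre piece of the module into the
`(j+i)`-th one -/
theorem act_segrePiece_mem {σM σN : Type u} [SetLike σM M] [SetLike σN N]
    (𝒜 : ℤ → Submodule k R) (ℬ : ℤ → Submodule k S)
    (ℳ : ℤ → σM) [SetLike.GradedSMul 𝒜 ℳ]
    (𝒩 : ℤ → σN) [SetLike.GradedSMul ℬ 𝒩]
    (i j : ℤ) (w : R ⊗[k] S) (hw : w ∈ GrSeg.segrePiece k 𝒜 ℬ i)
    (v : M ⊗[k] N) (hv : v ∈ GrSeg.segrePiece k ℳ 𝒩 j) :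
    GrSeg.act k R S M N w v ∈ GrSeg.segrePiece k ℳ 𝒩 (j + i) := by
  induction hw using Submodule.span_induction with
  | mem w hw =>
    obtain ⟨a, ha, b, hb, rfl⟩ := hw
    induction hv using Submodule.span_induction with
    | mem v hv =>
      obtain ⟨m, hm, n, hn, rfl⟩ := hv
      rw [GrSeg.act_tmul]
      refine Submodule.subset_span ⟨a • m, ?_, b • n, ?_, rfl⟩
      · have := SetLike.GradedSMul.smul_mem (A := 𝒜) (B := ℳ) ha hm
        rw [vadd_eq_add, add_comm] at this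
        exact this
      · have := SetLike.GradedSMul.smul_mem (A := ℬ) (B := 𝒩) hb hn
        rw [vadd_eq_add, add_comm] at this
        exact this
    | zero => rw [map_zero]; exact Submodule.zero_mem _
    | add x y _ _ hx hy => rw [map_add]; exact Submodule.add_mem _ hx hy
    | smul c x _ hx => rw [map_smul]; exact Submodule.smul_mem _ c hx
  | zero => rw [map_zero, LinearMap.zero_apply]; exact Submodule.zero_mem _
  | add x y _ _ hx hy => rw [map_add, LinearMap.add_apply]; exact Submodule.add_mem _ hx hy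
  | smul c x _ hx => rw [map_smul, LinearMap.smul_apply]; exact Submodule.smul_mem _ c hx

theorem segre_piece_eq_smul
    (𝒜 : ℤ → Submodule k R) [GradedAlgebra 𝒜] (ℬ : ℤ → Submodule k S) [GradedAlgebra ℬ]
    (𝒯 : ℤ → Submodule k T) [GradedAlgebra 𝒯] (ψ : T →ₐ[k] R ⊗[k] S)
    (hT : GrSeg.IsSegreRing 𝒜 ℬ 𝒯 ψ)
    (ℳ : ℤ → AddSubgroup M) [DirectSum.Decomposition ℳ] [SetLike.GradedSMul 𝒜 ℳ]
    (𝒩 : ℤ → AddSubgroup N) [DirectSum.Decomposition 𝒩] [SetLike.GradedSMul ℬ 𝒩]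
    (𝒬 : ℤ → AddSubgroup P) [DirectSum.Decomposition 𝒬] (φ : P →ₗ[k] M ⊗[k] N)
    (hP : GrSeg.IsSegreMod ψ ℳ 𝒩 𝒬 φ)
    (n : ℤ) (x : M) (hx : x ∈ ℳ n) (y : N) (hy : y ∈ 𝒩 n) (p : P) (hp : φ p = x ⊗ₜ[k] y)
    (hgen : Submodule.span T {p} = ⊤) (d : ℤ) (hNd : 𝒩 (n + d) ≠ ⊥) (z : M) (hz : z ∈ ℳ (n + d)) :
    ∃ r ∈ 𝒜 d, r • x = z := by
  -- a nonzero element of `N_{n+d}` and a functional
  obtain ⟨y', hy', hy'0⟩ : ∃ y' ∈ 𝒩 (n + d), y' ≠ 0 := by
    by_contra hcon
    push_neg at hcon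
    apply hNd
    rw [eq_bot_iff]
    intro w hw
    rw [AddSubgroup.mem_bot]
    exact hcon w hw
  obtain ⟨ℓ, hℓ⟩ : ∃ ℓ : N →ₗ[k] k, ℓ y' = 1 := by
    have hinj : Function.Injective (LinearMap.toSpanSingleton k N y') := by
      intro a b hab
      simp only [LinearMap.toSpanSingleton_apply] at hab
      exact smul_left_injective k hy'0 hab
    obtain ⟨g, hg⟩ := LinearMap.exists_leftInverse_of_injective (LinearMap.toSpanSingleton k N y')
      (LinearMap.ker_eq_bot.mpr hinj)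
    refine ⟨g, ?_⟩
    have := congrArg (fun F => F (1 : k)) hg
    simpa using this
  -- the contraction
  let Θ : M ⊗[k] N →ₗ[k] M := (TensorProduct.rid k M).toLinearMap ∘ₗ TensorProduct.map LinearMap.id ℓ
  have hΘ : ∀ (m : M) (b : N), Θ (m ⊗ₜ[k] b) = ℓ b • m := by
    intro m b
    simp [Θ]
  -- `p` is homogeneous of degree `n`
  have hpn : p ∈ 𝒬 n := by
    have : x ⊗ₜ[k] y ∈ φ '' (𝒬 n : Set P) := by
      rw [hP.image_piece n]
      exact Submodule.subset_span ⟨x, hx, y, hy, rfl⟩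
    obtain ⟨p', hp', hpp⟩ := this
    rw [← hp] at hpp
    rw [← hP.injective hpp]
    exact hp'
  -- `z ⊗ y'` comes from `q ∈ Q_{n+d}`
  have hzy : z ⊗ₜ[k] y' ∈ φ '' (𝒬 (n + d) : Set P) := by
    rw [hP.image_piece (n + d)]
    exact Submodule.subset_span ⟨z, hz, y', hy', rfl⟩
  obtain ⟨q, hq, hqφ⟩ := hzy
  obtain ⟨t, rfl⟩ : ∃ t : T, t • p = q := by
    have : q ∈ Submodule.span T {p} := by rw [hgen]; trivial
    exact Submodule.mem_span_singleton.mp this
  -- the additive map `t ↦ t • p` is homogeneous of degree `n`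
  let h : T →+ P := (LinearMap.toSpanSingleton T P p).toAddMonoidHom
  have hh : ∀ i, ∀ s ∈ 𝒯 i, h s ∈ 𝒬 (i + n) := by
    intro i s hs
    change s • p ∈ 𝒬 (i + n)
    have h1 : φ (s • p) ∈ GrSeg.segrePiece k ℳ 𝒩 (n + i) := by
      rw [hP.map_smul]
      apply act_segrePiece_mem 𝒜 ℬ ℳ 𝒩
      · rw [← hT.2 i]; exact ⟨s, hs, rfl⟩
      · rw [hp]; exact Submodule.subset_span ⟨x, hx, y, hy, rfl⟩
    rw [add_comm] at h1
    have h2 : φ (s • p) ∈ φ '' (𝒬 (i + n) : Set P) := by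
      rw [hP.image_piece (i + n)]; exact h1
    obtain ⟨p', hp', hpp⟩ := h2
    rw [← hP.injective hpp]
    exact hp'
  have hq' : h t ∈ 𝒬 (d + n) := by rw [add_comm]; exact hq
  have hcomp := map_eq_map_component 𝒯 𝒬 h n hh t d hq'
  have hcomp' : t • p = ((DirectSum.decompose 𝒯 t d : 𝒯 d) : T) • p := hcomp
  set td : T := ((DirectSum.decompose 𝒯 t d : 𝒯 d) : T) with htd
  have htd_mem : ψ td ∈ GrSeg.segrePiece k 𝒜 ℬ d := by
    rw [← hT.2 d]; exact ⟨td, SetLike.coe_mem _, rfl⟩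
  -- general claim about elements of the `d`-th Segre piece
  have claim : ∀ w ∈ GrSeg.segrePiece k 𝒜 ℬ d,
      ∃ r ∈ 𝒜 d, Θ (GrSeg.act k R S M N w (x ⊗ₜ[k] y)) = r • x := by
    intro w hw
    induction hw using Submodule.span_induction with
    | mem w hw =>
      obtain ⟨a, ha, b, -, rfl⟩ := hw
      refine ⟨ℓ (b • y) • a, Submodule.smul_mem _ _ ha, ?_⟩
      rw [GrSeg.act_tmul, hΘ, smul_assoc]
    | zero => exact ⟨0, Submodule.zero_mem _, by simp⟩
    | add u v _ _ hu hv =>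
      obtain ⟨r1, hr1, e1⟩ := hu
      obtain ⟨r2, hr2, e2⟩ := hv
      refine ⟨r1 + r2, Submodule.add_mem _ hr1 hr2, ?_⟩
      rw [map_add, LinearMap.add_apply, map_add, e1, e2, add_smul]
    | smul c u _ hu =>
      obtain ⟨r1, hr1, e1⟩ := hu
      refine ⟨c • r1, Submodule.smul_mem _ c hr1, ?_⟩
      rw [map_smul, LinearMap.smul_apply, map_smul, e1, smul_assoc]
  obtain ⟨r, hr, hrx⟩ := claim _ htd_mem
  refine ⟨r, hr, ?_⟩
  rw [← hrx, ← hp, ← hP.map_smul, ← hcomp', hqφ, hΘ, hℓ, one_smul]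

end Segre

end Groth.Agent.H98
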