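import Groth.Agent.H98.BiGrade
import Groth.Agent.H98.Segre2
import Mathlib.RingTheory.FiniteStability
import Mathlib.RingTheory.Noetherian.Basic
import Mathlib.RingTheory.Polynomial.Basic

set_option autoImplicit false
universe u

namespace Groth.Agent.H98

open scoped TensorProduct

section Act

variable {k : Type u} [CommRing k] {R S : Type u} [CommRing R] [CommRing S]
  [Algebra k R] [Algebra k S]
  {M N : Type u} [AddCommGroup M] [Module R M] [Module k M] [IsScalarTower k R M]
  [AddCommGroup N] [Module S N] [Module k N] [IsScalarTower k S N]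

variable (k R S M N) in
theorem act_one : GrSeg.act k R S M N 1 = LinearMap.id := by
  refine TensorProduct.ext' ?_
  intro m n
  rw [Algebra.TensorProduct.one_def, GrSeg.act_tmul, one_smul, one_smul]
  rfl

theorem act_mul (a b : R ⊗[k] S) :
    GrSeg.act k R S M N (a * b) = GrSeg.act k R S M N a ∘ₗ GrSeg.act k R S M N b := by
  induction a using TensorProduct.induction_on with
  | zero => simp
  | add x y hx hy => rw [add_mul, map_add, hx, hy, map_add, LinearMap.add_comp]
  | tmul r s =>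
    induction b using TensorProduct.induction_on with
    | zero => simp
    | add x y hx hy => rw [mul_add, map_add, hx, hy, map_add, LinearMap.comp_add]
    | tmul r' s' =>
      refine TensorProduct.ext' ?_
      intro m n
      rw [Algebra.TensorProduct.tmul_mul_tmul, GrSeg.act_tmul, LinearMap.comp_apply,
        GrSeg.act_tmul, GrSeg.act_tmul, mul_smul, mul_smul]

variable (k R S M N) in
/-- the action as a ring homomorphism into the endomorphism ring -/
noncomputable def actRingHom : (R ⊗[k] S) →+* Module.End k (M ⊗[k] N) where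
  toFun a := GrSeg.act k R S M N a
  map_one' := act_one k R S M N
  map_mul' a b := act_mul a b
  map_zero' := map_zero _
  map_add' a b := map_add _ a b

variable (k R S M N) in
/-- `M ⊗ N` as a module over `R ⊗ S` -/
@[reducible] noncomputable def tensorModule : Module (R ⊗[k] S) (M ⊗[k] N) :=
  Module.compHom (M ⊗[k] N) (actRingHom k R S M N)

theorem tensorModule_smul (a : R ⊗[k] S) (e : M ⊗[k] N) :
    letI := tensorModule k R S M N
    a • e = GrSeg.act k R S M N a e := rfl

theorem tensorModule_finite [Module.Finite R M] [Module.Finite S N] :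
    letI := tensorModule k R S M N
    Module.Finite (R ⊗[k] S) (M ⊗[k] N) := by
  letI := tensorModule k R S M N
  obtain ⟨GM, hGM⟩ := (Module.finite_def.mp (inferInstance : Module.Finite R M))
  obtain ⟨GN, hGN⟩ := (Module.finite_def.mp (inferInstance : Module.Finite S N))
  classical
  refine Module.finite_def.mpr ⟨(GM ×ˢ GN).image (fun p => p.1 ⊗ₜ[k] p.2), ?_⟩
  set W : Submodule (R ⊗[k] S) (M ⊗[k] N) :=
    Submodule.span (R ⊗[k] S) (((GM ×ˢ GN).image (fun p => p.1 ⊗ₜ[k] p.2) : Finset (M ⊗[k] N)) :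
      Set (M ⊗[k] N)) with hW
  have h1 : ∀ n ∈ GN, ∀ m : M, m ⊗ₜ[k] n ∈ W := by
    intro n hn m
    have hm : m ∈ Submodule.span R (GM : Set M) := by rw [hGM]; trivial
    induction hm using Submodule.span_induction with
    | mem x hx =>
      apply Submodule.subset_span
      rw [Finset.coe_image]
      exact ⟨(x, n), by simp [hx, hn], rfl⟩
    | zero => rw [TensorProduct.zero_tmul]; exact Submodule.zero_mem _
    | add x y _ _ hx hy => rw [TensorProduct.add_tmul]; exact Submodule.add_mem _ hx hy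
    | smul r x _ hx =>
      have : (r • x) ⊗ₜ[k] n = (r ⊗ₜ[k] (1 : S)) • (x ⊗ₜ[k] n) := by
        rw [tensorModule_smul, GrSeg.act_tmul, one_smul]
      rw [this]
      exact Submodule.smul_mem _ _ hx
  have h2 : ∀ (m : M) (n : N), m ⊗ₜ[k] n ∈ W := by
    intro m n
    have hn : n ∈ Submodule.span S (GN : Set N) := by rw [hGN]; trivial
    induction hn using Submodule.span_induction with
    | mem x hx => exact h1 x hx m
    | zero => rw [TensorProduct.tmul_zero]; exact Submodule.zero_mem _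
    | add x y _ _ hx hy => rw [TensorProduct.tmul_add]; exact Submodule.add_mem _ hx hy
    | smul s x _ hx =>
      have : m ⊗ₜ[k] (s • x) = ((1 : R) ⊗ₜ[k] s) • (m ⊗ₜ[k] x) := by
        rw [tensorModule_smul, GrSeg.act_tmul, one_smul]
      rw [this]
      exact Submodule.smul_mem _ _ hx
  rw [eq_top_iff]
  rintro e -
  induction e using TensorProduct.induction_on with
  | zero => exact Submodule.zero_mem _
  | tmul m n => exact h2 m n
  | add x y hx hy => exact Submodule.add_mem _ hx hy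

end Act


section Main

variable {k : Type u} [Field k] {R S T : Type u} [CommRing R] [CommRing S] [CommRing T]
  [Algebra k R] [Algebra k S] [Algebra k T]
  {M N P : Type u} [AddCommGroup M] [Module R M] [Module k M] [IsScalarTower k R M]
  [AddCommGroup N] [Module S N] [Module k N] [IsScalarTower k S N]
  [AddCommGroup P] [Module T P] [Module k P] [IsScalarTower k T P]
  {σM σN σQ : Type u} [SetLike σM M] [AddSubgroupClass σM M] [SetLike σN N] [AddSubgroupClass σN N]
  [SetLike σQ P] [AddSubgroupClass σQ P]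

theorem smul_mem_piece (𝒜 : ℤ → Submodule k R) [GradedAlgebra 𝒜]
    (ℳ : ℤ → σM) [SetLike.GradedSMul 𝒜 ℳ] (c : k) (i : ℤ) (x : M) (hx : x ∈ ℳ i) :
    c • x ∈ ℳ i := by
  have h1 : algebraMap k R c ∈ 𝒜 0 := by
    rw [Algebra.algebraMap_eq_smul_one]
    exact Submodule.smul_mem _ _ (SetLike.GradedOne.one_mem)
  have h2 := SetLike.GradedSMul.smul_mem (A := 𝒜) (B := ℳ) h1 hx
  rw [vadd_eq_add, zero_add, algebraMap_smul] at h2
  exact h2

theorem act_off_diag_mem
    (𝒜 : ℤ → Submodule k R) (ℬ : ℤ → Submodule k S)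
    (ℳ : ℤ → σM) [SetLike.GradedSMul 𝒜 ℳ]
    (𝒩 : ℤ → σN) [SetLike.GradedSMul ℬ 𝒩]
    (a : R ⊗[k] S) (ha : a ∈ offPart (k := k) 𝒜 ℬ)
    (e : M ⊗[k] N) (he : e ∈ diagPart (k := k) ℳ 𝒩) :
    GrSeg.act k R S M N a e ∈ offPart (k := k) ℳ 𝒩 := by
  induction ha using Submodule.span_induction with
  | mem w hw =>
    obtain ⟨i, j, hij, r, hr, s, hs, rfl⟩ := hw
    induction he using Submodule.span_induction with
    | mem v hv =>
      obtain ⟨n, m, hm, y, hy, rfl⟩ := hv
      rw [GrSeg.act_tmul]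
      refine Submodule.subset_span ⟨i + n, j + n, fun h => hij (by omega), r • m, ?_, s • y, ?_, rfl⟩
      · exact SetLike.GradedSMul.smul_mem (A := 𝒜) (B := ℳ) hr hm
      · exact SetLike.GradedSMul.smul_mem (A := ℬ) (B := 𝒩) hs hy
    | zero => rw [map_zero]; exact Submodule.zero_mem _
    | add x y _ _ hx hy => rw [map_add]; exact Submodule.add_mem _ hx hy
    | smul c x _ hx => rw [map_smul]; exact Submodule.smul_mem _ c hx
  | zero => rw [map_zero, LinearMap.zero_apply]; exact Submodule.zero_mem _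
  | add x y _ _ hx hy => rw [map_add, LinearMap.add_apply]; exact Submodule.add_mem _ hx hy
  | smul c x _ hx => rw [map_smul, LinearMap.smul_apply]; exact Submodule.smul_mem _ c hx

theorem segre_isNoetherian
    (𝒜 : ℤ → Submodule k R) [GradedAlgebra 𝒜] (ℬ : ℤ → Submodule k S) [GradedAlgebra ℬ]
    (𝒯 : ℤ → Submodule k T) [GradedAlgebra 𝒯] (ψ : T →ₐ[k] R ⊗[k] S)
    (hT : GrSeg.IsSegreRing 𝒜 ℬ 𝒯 ψ)
    [Algebra.FiniteType k R] [Algebra.FiniteType k S]
    (ℳ : ℤ → σM) [DirectSum.Decomposition ℳ] [SetLike.GradedSMul 𝒜 ℳ]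
    (𝒩 : ℤ → σN) [DirectSum.Decomposition 𝒩] [SetLike.GradedSMul ℬ 𝒩]
    [Module.Finite R M] [Module.Finite S N]
    (𝒬 : ℤ → σQ) [DirectSum.Decomposition 𝒬] (φ : P →ₗ[k] M ⊗[k] N)
    (hP : GrSeg.IsSegreMod ψ ℳ 𝒩 𝒬 φ) : IsNoetherian T P := by
  have hkA : ∀ (c : k) (i : ℤ) (x : R), x ∈ 𝒜 i → c • x ∈ 𝒜 i :=
    fun c i x hx => Submodule.smul_mem _ c hx
  have hkB : ∀ (c : k) (i : ℤ) (x : S), x ∈ ℬ i → c • x ∈ ℬ i :=
    fun c i x hx => Submodule.smul_mem _ c hx
  have hkM : ∀ (c : k) (i : ℤ) (x : M), x ∈ ℳ i → c • x ∈ ℳ i := smul_mem_piece 𝒜 ℳ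
  have hkN : ∀ (c : k) (i : ℤ) (x : N), x ∈ 𝒩 i → c • x ∈ 𝒩 i := smul_mem_piece ℬ 𝒩
  -- `φ` lands in the diagonal part
  have hφ_diag : ∀ p : P, φ p ∈ diagPart (k := k) ℳ 𝒩 := by
    intro p
    induction p using DirectSum.Decomposition.inductionOn 𝒬 with
    | zero => rw [map_zero]; exact Submodule.zero_mem _
    | @homogeneous n m =>
      have h1 : φ (m : P) ∈ φ '' (𝒬 n : Set P) := ⟨m, m.2, rfl⟩
      rw [hP.image_piece n] at h1
      have hle : GrSeg.segrePiece k ℳ 𝒩 n ≤ diagPart (k := k) ℳ 𝒩 := by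
        apply Submodule.span_mono
        rintro x ⟨a, ha, b, hb, rfl⟩
        exact ⟨n, a, ha, b, hb, rfl⟩
      exact hle h1
    | add m m' hm hm' => rw [map_add]; exact Submodule.add_mem _ hm hm'
  -- the diagonal part of `R ⊗ S` is in the image of `ψ`
  have hψ_diag : ∀ a ∈ diagPart (k := k) 𝒜 ℬ, ∃ t : T, ψ t = a := by
    intro a ha
    induction ha using Submodule.span_induction with
    | mem x hx =>
      obtain ⟨n, r, hr, s, hs, rfl⟩ := hx
      have : r ⊗ₜ[k] s ∈ GrSeg.segrePiece k 𝒜 ℬ n := Submodule.subset_span ⟨r, hr, s, hs, rfl⟩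
      rw [← hT.2 n] at this
      obtain ⟨t, -, ht⟩ := this
      exact ⟨t, ht⟩
    | zero => exact ⟨0, map_zero _⟩
    | add x y _ _ hx hy =>
      obtain ⟨t1, rfl⟩ := hx
      obtain ⟨t2, rfl⟩ := hy
      exact ⟨t1 + t2, map_add _ _ _⟩
    | smul c x _ hx =>
      obtain ⟨t1, rfl⟩ := hx
      exact ⟨c • t1, map_smul _ _ _⟩
  letI modE := tensorModule k R S M N
  haveI finE : Module.Finite (R ⊗[k] S) (M ⊗[k] N) := tensorModule_finite
  haveI ftA : Algebra.FiniteType k (R ⊗[k] S) :=
    Algebra.FiniteType.trans (inferInstance : Algebra.FiniteType k R)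
      (inferInstance : Algebra.FiniteType R (R ⊗[k] S))
  haveI noethA : IsNoetherianRing (R ⊗[k] S) := Algebra.FiniteType.isNoetherianRing k _
  haveI noethE : IsNoetherian (R ⊗[k] S) (M ⊗[k] N) := isNoetherian_of_isNoetherianRing_of_finite _ _
  -- key lemma
  have key : ∀ (U : Submodule T P) (p : P),
      φ p ∈ Submodule.span (R ⊗[k] S) (φ '' (U : Set P)) → p ∈ U := by
    intro U p hp
    have aux : ∀ e ∈ Submodule.span (R ⊗[k] S) (φ '' (U : Set P)),
        ∃ u ∈ U, e - φ u ∈ offPart (k := k) ℳ 𝒩 := by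
      intro e he
      induction he using Submodule.closure_induction with
      | zero => exact ⟨0, Submodule.zero_mem _, by simp⟩
      | add x y _ _ hx hy =>
        obtain ⟨u1, hu1, h1⟩ := hx
        obtain ⟨u2, hu2, h2⟩ := hy
        refine ⟨u1 + u2, Submodule.add_mem _ hu1 hu2, ?_⟩
        have : x + y - φ (u1 + u2) = (x - φ u1) + (y - φ u2) := by rw [map_add]; abel
        rw [this]
        exact Submodule.add_mem _ h1 h2
      | smul_mem a x hx =>
        obtain ⟨u, hu, rfl⟩ := hx
        have hatop : a ∈ diagPart (k := k) 𝒜 ℬ ⊔ offPart (k := k) 𝒜 ℬ := by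
          rw [diag_sup_off 𝒜 ℬ hkA hkB]; trivial
        obtain ⟨a0, ha0, a1, ha1, rfl⟩ := Submodule.mem_sup.mp hatop
        obtain ⟨t, rfl⟩ := hψ_diag a0 ha0
        refine ⟨t • u, Submodule.smul_mem _ t hu, ?_⟩
        have : (ψ t + a1) • φ u - φ (t • u) = GrSeg.act k R S M N a1 (φ u) := by
          rw [tensorModule_smul, map_add, LinearMap.add_apply, hP.map_smul]
          abel
        rw [this]
        exact act_off_diag_mem 𝒜 ℬ ℳ 𝒩 a1 ha1 _ (hφ_diag u)
    obtain ⟨u, hu, hoff⟩ := aux _ hp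
    have hdiag : φ p - φ u ∈ diagPart (k := k) ℳ 𝒩 := Submodule.sub_mem _ (hφ_diag p) (hφ_diag u)
    have hzero : φ p - φ u = 0 :=
      (Submodule.disjoint_def.mp (diag_disjoint_off ℳ 𝒩 hkM hkN)) _ hdiag hoff
    have : p = u := hP.injective (sub_eq_zero.mp hzero)
    rw [this]; exact hu
  -- conclusion
  rw [isNoetherian_iff']
  let f : Submodule T P → Submodule (R ⊗[k] S) (M ⊗[k] N) :=
    fun U => Submodule.span (R ⊗[k] S) (φ '' (U : Set P))
  have hf : StrictMono f := by
    intro U U' hUU'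
    have hle : f U ≤ f U' := Submodule.span_mono (Set.image_mono (le_of_lt hUU'))
    refine lt_of_le_of_ne hle ?_
    intro heq
    apply not_le_of_gt hUU'
    intro p hp
    apply key U p
    have : φ p ∈ f U' := Submodule.subset_span ⟨p, hp, rfl⟩
    rw [← heq] at this
    exact this
  exact hf.wellFoundedGT

end Main

end Groth.Agent.H98
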