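import Groth.Agent.H98.Segre
import Mathlib.LinearAlgebra.TensorProduct.Basic

set_option autoImplicit false
universe u

namespace Groth.Agent.H98

open scoped TensorProduct

section Proj

variable {k : Type*} [CommRing k] {M : Type*} [AddCommGroup M] [Module k M]
  {σ : Type*} [SetLike σ M] [AddSubgroupClass σ M] (ℳ : ℤ → σ) [DirectSum.Decomposition ℳ]
  (hk : ∀ (c : k) (i : ℤ) (x : M), x ∈ ℳ i → c • x ∈ ℳ i)

/-- the `k`-linear projection on the `i`-th graded piece -/
noncomputable def gproj (i : ℤ) : M →ₗ[k] M where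
  toFun m := (DirectSum.decompose ℳ m i : M)
  map_add' a b := by simp [DirectSum.decompose_add]
  map_smul' c m := by
    have := decompose_map_shift ℳ ℳ (DistribSMul.toAddMonoidHom M c) 0
      (fun j x hx => by simpa using hk c j x hx) m i
    rw [add_zero] at this
    simpa using this

theorem gproj_apply (i : ℤ) (m : M) : gproj ℳ hk i m = (DirectSum.decompose ℳ m i : M) := rfl

theorem gproj_mem (i : ℤ) (m : M) : gproj ℳ hk i m ∈ ℳ i := SetLike.coe_mem _

theorem gproj_of_mem_same {i : ℤ} {x : M} (hx : x ∈ ℳ i) : gproj ℳ hk i x = x := by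
  rw [gproj_apply, DirectSum.decompose_of_mem_same ℳ hx]

theorem gproj_of_mem_ne {i j : ℤ} {x : M} (hx : x ∈ ℳ j) (hij : j ≠ i) : gproj ℳ hk i x = 0 := by
  rw [gproj_apply, DirectSum.decompose_of_mem_ne ℳ hx hij]

open scoped Classical in
theorem sum_support_gproj (m : M) :
    ∑ i ∈ (DirectSum.decompose ℳ m).support, gproj ℳ hk i m = m :=
  DirectSum.sum_support_decompose ℳ m

open scoped Classical in
theorem gproj_eq_zero_of_notMem_support (m : M) (i : ℤ)
    (hi : i ∉ (DirectSum.decompose ℳ m).support) : gproj ℳ hk i m = 0 := by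
  rw [gproj_apply]
  rw [DFinsupp.notMem_support_iff] at hi
  rw [hi]; rfl

end Proj

section Bi

variable {k : Type*} [CommRing k] {M N : Type*} [AddCommGroup M] [Module k M]
  [AddCommGroup N] [Module k N]
  {σ τ : Type*} [SetLike σ M] [AddSubgroupClass σ M] [SetLike τ N] [AddSubgroupClass τ N]
  (ℳ : ℤ → σ) [DirectSum.Decomposition ℳ] (𝒩 : ℤ → τ) [DirectSum.Decomposition 𝒩]
  (hkM : ∀ (c : k) (i : ℤ) (x : M), x ∈ ℳ i → c • x ∈ ℳ i)
  (hkN : ∀ (c : k) (i : ℤ) (x : N), x ∈ 𝒩 i → c • x ∈ 𝒩 i)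

/-- the span of the `M_n ⊗ N_n` -/
def diagPart : Submodule k (M ⊗[k] N) :=
  Submodule.span k {x | ∃ n : ℤ, ∃ a ∈ ℳ n, ∃ b ∈ 𝒩 n, x = a ⊗ₜ[k] b}

/-- the span of the `M_i ⊗ N_j`, `i ≠ j` -/
def offPart : Submodule k (M ⊗[k] N) :=
  Submodule.span k {x | ∃ i j : ℤ, i ≠ j ∧ ∃ a ∈ ℳ i, ∃ b ∈ 𝒩 j, x = a ⊗ₜ[k] b}

/-- the projection on `M_i ⊗ N_j` -/
noncomputable def bproj (i j : ℤ) : M ⊗[k] N →ₗ[k] M ⊗[k] N :=
  TensorProduct.map (gproj ℳ hkM i) (gproj 𝒩 hkN j)

theorem bproj_diag {e : M ⊗[k] N} (he : e ∈ diagPart (k := k) ℳ 𝒩) {i j : ℤ} (hij : i ≠ j) :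
    bproj ℳ 𝒩 hkM hkN i j e = 0 := by
  induction he using Submodule.span_induction with
  | mem x hx =>
    obtain ⟨n, a, ha, b, hb, rfl⟩ := hx
    rw [bproj, TensorProduct.map_tmul]
    by_cases hn : n = i
    · subst hn
      rw [gproj_of_mem_ne 𝒩 hkN hb hij, TensorProduct.tmul_zero]
    · rw [gproj_of_mem_ne ℳ hkM ha hn, TensorProduct.zero_tmul]
  | zero => exact map_zero _
  | add x y _ _ hx hy => rw [map_add, hx, hy, add_zero]
  | smul c x _ hx => rw [map_smul, hx, smul_zero]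

theorem bproj_off {e : M ⊗[k] N} (he : e ∈ offPart (k := k) ℳ 𝒩) (i : ℤ) :
    bproj ℳ 𝒩 hkM hkN i i e = 0 := by
  induction he using Submodule.span_induction with
  | mem x hx =>
    obtain ⟨i', j', hij, a, ha, b, hb, rfl⟩ := hx
    rw [bproj, TensorProduct.map_tmul]
    by_cases hn : i' = i
    · subst hn
      rw [gproj_of_mem_ne 𝒩 hkN hb (Ne.symm hij), TensorProduct.tmul_zero]
    · rw [gproj_of_mem_ne ℳ hkM ha hn, TensorProduct.zero_tmul]
  | zero => exact map_zero _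
  | add x y _ _ hx hy => rw [map_add, hx, hy, add_zero]
  | smul c x _ hx => rw [map_smul, hx, smul_zero]

open scoped Classical in
theorem tmul_eq_sum_bproj (m : M) (n : N) :
    m ⊗ₜ[k] n = ∑ ij ∈ (DirectSum.decompose ℳ m).support ×ˢ (DirectSum.decompose 𝒩 n).support,
      bproj ℳ 𝒩 hkM hkN ij.1 ij.2 (m ⊗ₜ[k] n) := by
  rw [Finset.sum_product]
  simp only [bproj, TensorProduct.map_tmul]
  simp_rw [← TensorProduct.tmul_sum, ← TensorProduct.sum_tmul]
  rw [sum_support_gproj, sum_support_gproj]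

open scoped Classical in
theorem exists_finset_bproj (e : M ⊗[k] N) :
    ∃ F : Finset (ℤ × ℤ), (∀ ij, ij ∉ F → bproj ℳ 𝒩 hkM hkN ij.1 ij.2 e = 0) ∧
      e = ∑ ij ∈ F, bproj ℳ 𝒩 hkM hkN ij.1 ij.2 e := by
  induction e using TensorProduct.induction_on with
  | zero => exact ⟨∅, fun _ _ => map_zero _, by simp⟩
  | tmul m n =>
    refine ⟨(DirectSum.decompose ℳ m).support ×ˢ (DirectSum.decompose 𝒩 n).support, ?_,
      tmul_eq_sum_bproj ℳ 𝒩 hkM hkN m n⟩
    intro ij hij
    rw [Finset.mem_product, not_and_or] at hij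
    rw [bproj, TensorProduct.map_tmul]
    rcases hij with h | h
    · rw [gproj_eq_zero_of_notMem_support ℳ hkM m _ h, TensorProduct.zero_tmul]
    · rw [gproj_eq_zero_of_notMem_support 𝒩 hkN n _ h, TensorProduct.tmul_zero]
  | add x y hx hy =>
    obtain ⟨F1, h1, e1⟩ := hx
    obtain ⟨F2, h2, e2⟩ := hy
    refine ⟨F1 ∪ F2, ?_, ?_⟩
    · intro ij hij
      rw [Finset.mem_union, not_or] at hij
      rw [map_add, h1 ij hij.1, h2 ij hij.2, add_zero]
    · simp only [map_add, Finset.sum_add_distrib]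
      congr 1
      · conv_lhs => rw [e1]
        apply Finset.sum_subset Finset.subset_union_left
        intro ij _ hij
        exact h1 ij hij
      · conv_lhs => rw [e2]
        apply Finset.sum_subset Finset.subset_union_right
        intro ij _ hij
        exact h2 ij hij

include hkM hkN in
theorem diag_disjoint_off : Disjoint (diagPart (k := k) ℳ 𝒩) (offPart (k := k) ℳ 𝒩) := by
  rw [Submodule.disjoint_def]
  intro e he0 he1
  obtain ⟨F, -, hF⟩ := exists_finset_bproj ℳ 𝒩 hkM hkN e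
  rw [hF]
  apply Finset.sum_eq_zero
  intro ij _
  by_cases h : ij.1 = ij.2
  · rw [← h]; exact bproj_off ℳ 𝒩 hkM hkN he1 ij.1
  · exact bproj_diag ℳ 𝒩 hkM hkN he0 h

include hkM hkN in
open scoped Classical in
theorem diag_sup_off : diagPart (k := k) ℳ 𝒩 ⊔ offPart (k := k) ℳ 𝒩 = ⊤ := by
  rw [eq_top_iff]
  rintro e -
  induction e using TensorProduct.induction_on with
  | zero => exact Submodule.zero_mem _
  | tmul m n =>
    rw [tmul_eq_sum_bproj ℳ 𝒩 hkM hkN m n]
    apply Submodule.sum_mem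
    intro ij _
    rw [bproj, TensorProduct.map_tmul]
    by_cases h : ij.1 = ij.2
    · apply Submodule.mem_sup_left
      refine Submodule.subset_span ⟨ij.1, _, gproj_mem ℳ hkM _ _, _, ?_, rfl⟩
      rw [h]; exact gproj_mem 𝒩 hkN _ _
    · apply Submodule.mem_sup_right
      exact Submodule.subset_span ⟨ij.1, ij.2, h, _, gproj_mem ℳ hkM _ _, _, gproj_mem 𝒩 hkN _ _, rfl⟩
  | add x y hx hy => exact Submodule.add_mem _ hx hy

end Bi

end Groth.Agent.H98
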