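import Mathlib.LinearAlgebra.BilinearForm.Properties
import Mathlib.LinearAlgebra.Eigenspace.Basic
import Mathlib.LinearAlgebra.FiniteDimensional.Defs
import Mathlib.RingTheory.Artinian.Module
import Mathlib.Algebra.Polynomial.AlgebraMap
import Mathlib.RingTheory.Coprime.Basic
import Mathlib.RingTheory.Polynomial.Basic
import Mathlib.Algebra.Polynomial.RingDivision

set_option autoImplicit false
universe u v

namespace Groth.Agent.H98

open Polynomial

variable {k : Type u} [Field k] {V : Type v} [AddCommGroup V] [Module k V]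

theorem bilin_pow_twisted (B : LinearMap.BilinForm k V) (f g h : Module.End k V) (c : k)
    (hfg : ∀ x y : V, B (f x) (h y) = c * B x (g y)) (hc : Commute h g) (n : ℕ) (x y : V) :
    B ((f ^ n) x) ((h ^ n) y) = c ^ n * B x ((g ^ n) y) := by
  induction n generalizing x y with
  | zero => simp
  | succ n ih =>
    have hc' : (g ^ n) (h y) = h ((g ^ n) y) := by
      have := (hc.pow_right n).eq
      rw [← Module.End.mul_apply, ← Module.End.mul_apply, this]
    rw [pow_succ f, pow_succ h, Module.End.mul_apply, Module.End.mul_apply, ih, hc', hfg,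
      pow_succ' g, Module.End.mul_apply, pow_succ, mul_assoc]

theorem bilin_ker_orth_range_twisted (B : LinearMap.BilinForm k V) (f g h : Module.End k V) (c : k)
    (hc0 : c ≠ 0)
    (hfg : ∀ x y : V, B (f x) (h y) = c * B x (g y)) (hc : Commute h g) (n : ℕ) (x : V)
    (hx : (f ^ n) x = 0) (y : V) : B x ((g ^ n) y) = 0 := by
  have := bilin_pow_twisted B f g h c hfg hc n x y
  rw [hx, LinearMap.map_zero, LinearMap.zero_apply] at this
  exact (mul_eq_zero.mp this.symm).resolve_left (pow_ne_zero n hc0)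

theorem aeval_X_sub_C_pow (M : Module.End k V) (μ : k) (n : ℕ) :
    aeval M ((X - C μ) ^ n) = (M - μ • (1 : Module.End k V)) ^ n := by
  rw [map_pow, map_sub, aeval_X, aeval_C, Algebra.algebraMap_eq_smul_one]

theorem mem_range_pow_of_ker_pow (M : Module.End k V) (a b : k) (hab : a ≠ b) (m n : ℕ) (x : V)
    (hx : ((M - a • (1 : Module.End k V)) ^ m) x = 0) :
    ∃ z, ((M - b • (1 : Module.End k V)) ^ n) z = x := by
  have hcop : IsCoprime ((X - C a : k[X]) ^ m) ((X - C b) ^ n) :=
    (isCoprime_X_sub_C_of_isUnit_sub (sub_ne_zero.mpr hab).isUnit).pow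
  obtain ⟨u, v, huv⟩ := hcop
  have h1 : aeval M (u * (X - C a) ^ m + v * (X - C b) ^ n) x = x := by rw [huv]; simp
  rw [map_add, map_mul, map_mul, aeval_X_sub_C_pow, aeval_X_sub_C_pow, LinearMap.add_apply,
    Module.End.mul_apply, Module.End.mul_apply, hx, map_zero, zero_add] at h1
  refine ⟨aeval M v x, ?_⟩
  conv_rhs => rw [← h1]
  rw [← Module.End.mul_apply, ← Module.End.mul_apply, ← aeval_X_sub_C_pow, ← map_mul, ← map_mul,
    mul_comm]

theorem bilin_conformal [FiniteDimensional k V]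
    (B : LinearMap.BilinForm k V) (hB : B.Nondegenerate) (q : k) (hq : q ≠ 0)
    (M : Module.End k V) (hM : ∀ x y : V, B (M x) (M y) = q * B x y) :
    (∀ x ∈ Module.End.maxGenEigenspace M 1,
        (∀ y ∈ Module.End.maxGenEigenspace M q, B x y = 0) → x = 0) ∧
      (∀ y ∈ Module.End.maxGenEigenspace M q,
        (∀ x ∈ Module.End.maxGenEigenspace M 1, B x y = 0) → y = 0) ∧
      (q ≠ 1 → ∀ x ∈ Module.End.maxGenEigenspace M 1,
        ∀ x' ∈ Module.End.maxGenEigenspace M 1, B x x' = 0) ∧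
      (q ≠ 1 → ∀ y ∈ Module.End.maxGenEigenspace M q,
        ∀ y' ∈ Module.End.maxGenEigenspace M q, B y y' = 0) := by
  set f1 : Module.End k V := M - (1 : k) • (1 : Module.End k V) with hf1
  set fq : Module.End k V := M - q • (1 : Module.End k V) with hfq
  have comm1 : Commute M fq := by
    rw [hfq]; exact (Commute.refl M).sub_right ((Commute.one_right M).smul_right q)
  have commq : Commute M f1 := by
    rw [hf1]; exact (Commute.refl M).sub_right ((Commute.one_right M).smul_right 1)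
  -- application 1
  have A1 : ∀ x y : V, B (f1 x) (M y) = (-1 : k) * B x (fq y) := by
    intro x y
    simp only [hf1, hfq, LinearMap.sub_apply, LinearMap.smul_apply, Module.End.one_apply, map_sub,
      map_smul, hM, smul_eq_mul]
    ring
  have A2 : ∀ y x : V, B.flip (fq y) (M x) = (-q) * B.flip y (f1 x) := by
    intro y x
    simp only [hf1, hfq, LinearMap.BilinForm.flip_apply, LinearMap.sub_apply, LinearMap.smul_apply,
      Module.End.one_apply, map_sub, map_smul, hM, smul_eq_mul]
    ring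
  have O1 : ∀ (n : ℕ) (x : V), (f1 ^ n) x = 0 → ∀ y, B x ((fq ^ n) y) = 0 := fun n x hx y =>
    bilin_ker_orth_range_twisted B f1 fq M (-1) (by simp) A1 comm1 n x hx y
  have O2 : ∀ (n : ℕ) (y : V), (fq ^ n) y = 0 → ∀ x, B ((f1 ^ n) x) y = 0 := fun n y hy x => by
    have := bilin_ker_orth_range_twisted B.flip fq f1 M (-q) (neg_ne_zero.mpr hq) A2 commq n y hy x
    simpa [LinearMap.BilinForm.flip_apply] using this
  refine ⟨?_, ?_, ?_, ?_⟩
  · intro x hx hxy
    obtain ⟨n, hn⟩ := (Module.End.mem_maxGenEigenspace M 1 x).mp hx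
    apply hB.1
    intro v
    have hc := LinearMap.isCompl_iSup_ker_pow_iInf_range_pow fq
    obtain ⟨w, hw, w', hw', rfl⟩ := Submodule.mem_sup.mp
      (show v ∈ (⨆ n : ℕ, LinearMap.ker (fq ^ n)) ⊔ (⨅ n : ℕ, LinearMap.range (fq ^ n)) by
        rw [hc.sup_eq_top]; trivial)
    have hwq : w ∈ Module.End.maxGenEigenspace M q := by
      rw [Module.End.mem_maxGenEigenspace]
      obtain ⟨j, hj⟩ := (Submodule.mem_iSup_of_chain fq.iterateKer w).mp hw
      exact ⟨j, hj⟩
    obtain ⟨z, rfl⟩ := (Submodule.mem_iInf _).mp hw' n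
    rw [map_add, hxy w hwq, O1 n x hn z, add_zero]
  · intro y hy hxy
    obtain ⟨n, hn⟩ := (Module.End.mem_maxGenEigenspace M q y).mp hy
    apply hB.2
    intro v
    have hc := LinearMap.isCompl_iSup_ker_pow_iInf_range_pow f1
    obtain ⟨w, hw, w', hw', rfl⟩ := Submodule.mem_sup.mp
      (show v ∈ (⨆ n : ℕ, LinearMap.ker (f1 ^ n)) ⊔ (⨅ n : ℕ, LinearMap.range (f1 ^ n)) by
        rw [hc.sup_eq_top]; trivial)
    have hw1 : w ∈ Module.End.maxGenEigenspace M 1 := by
      rw [Module.End.mem_maxGenEigenspace]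
      obtain ⟨j, hj⟩ := (Submodule.mem_iSup_of_chain f1.iterateKer w).mp hw
      exact ⟨j, hj⟩
    obtain ⟨z, rfl⟩ := (Submodule.mem_iInf _).mp hw' n
    rw [map_add, LinearMap.add_apply, hxy w hw1, O2 n y hn z, add_zero]
  · intro hq1 x hx x' hx'
    obtain ⟨n, hn⟩ := (Module.End.mem_maxGenEigenspace M 1 x).mp hx
    obtain ⟨m, hm⟩ := (Module.End.mem_maxGenEigenspace M 1 x').mp hx'
    obtain ⟨z, rfl⟩ := mem_range_pow_of_ker_pow M 1 q (Ne.symm hq1) m n x' hm
    exact O1 n x hn z
  · intro hq1 y hy y' hy'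
    obtain ⟨n, hn⟩ := (Module.End.mem_maxGenEigenspace M q y).mp hy
    obtain ⟨m, hm⟩ := (Module.End.mem_maxGenEigenspace M q y').mp hy'
    obtain ⟨z, rfl⟩ := mem_range_pow_of_ker_pow M q 1 hq1 n m y hn
    exact O2 m y' hm z

end Groth.Agent.H98
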