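import Mathlib.LinearAlgebra.BilinearForm.Properties
import Mathlib.Algebra.Polynomial.Reverse
import Mathlib.Algebra.Polynomial.AlgebraMap
import Mathlib.RingTheory.Coprime.Basic
import Mathlib.LinearAlgebra.Span.Basic
import Mathlib.Algebra.Polynomial.Eval.Degree
import Mathlib.RingTheory.Artinian.Module
import Mathlib.LinearAlgebra.FiniteDimensional.Defs

set_option autoImplicit false
universe u v

namespace Groth.Agent.H98

open Polynomial

variable {k : Type u} [Field k] {V : Type v} [AddCommGroup V] [Module k V]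

theorem bilin_pow_invariant (B : LinearMap.BilinForm k V) (M : V →ₗ[k] V)
    (hM : ∀ x y : V, B (M x) (M y) = B x y) (n : ℕ) (x y : V) :
    B ((M ^ n) x) ((M ^ n) y) = B x y := by
  induction n generalizing x y with
  | zero => simp
  | succ n ih =>
    rw [pow_succ, Module.End.mul_apply, Module.End.mul_apply, ih, hM]

theorem natDegree_reflect_le' (N : ℕ) (P : k[X]) (hP : P.natDegree ≤ N) :
    (P.reflect N).natDegree ≤ N := by
  rw [natDegree_le_iff_coeff_eq_zero]
  intro i hi
  rw [coeff_reflect, revAt_eq_self_of_lt hi]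
  exact coeff_eq_zero_of_natDegree_lt (lt_of_le_of_lt hP hi)

theorem bilin_aeval_reflect (B : LinearMap.BilinForm k V) (M : V →ₗ[k] V)
    (hM : ∀ x y : V, B (M x) (M y) = B x y) (N : ℕ) (P : k[X]) (hP : P.natDegree ≤ N)
    (x y : V) :
    B (aeval M P x) ((M ^ N) y) = B x (aeval M (P.reflect N) y) := by
  rw [aeval_eq_sum_range' (Nat.lt_succ_of_le hP),
    aeval_eq_sum_range' (Nat.lt_succ_of_le (natDegree_reflect_le' N P hP))]
  rw [← Finset.sum_range_reflect (fun i => (P.reflect N).coeff i • M ^ i) (N + 1)]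
  simp only [LinearMap.sum_apply, map_sum, LinearMap.smul_apply, map_smul]
  refine Finset.sum_congr rfl fun j hj => ?_
  have hj' : j ≤ N := Nat.lt_succ_iff.mp (Finset.mem_range.mp hj)
  have h1 : N + 1 - 1 - j = N - j := by omega
  rw [h1, coeff_reflect, revAt_le (Nat.sub_le N j), Nat.sub_sub_self hj']
  congr 1
  have h2 : M ^ N = M ^ j * M ^ (N - j) := by rw [← pow_add]; congr 1; omega
  rw [h2, Module.End.mul_apply, bilin_pow_invariant B M hM]

theorem bilin_aeval_reflect' (B : LinearMap.BilinForm k V) (M : V →ₗ[k] V)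
    (hM : ∀ x y : V, B (M x) (M y) = B x y) (N : ℕ) (P : k[X]) (hP : P.natDegree ≤ N)
    (x y : V) :
    B ((M ^ N) x) (aeval M P y) = B (aeval M (P.reflect N) x) y := by
  have := bilin_aeval_reflect B.flip M (fun a b => by simp [hM]) N P hP y x
  simpa [LinearMap.flip_apply] using this

theorem reverse_pow' (Q : k[X]) (n : ℕ) : (Q ^ n).reverse = Q.reverse ^ n := by
  induction n with
  | zero => rw [pow_zero, pow_zero, ← C_1, reverse_C]
  | succ n ih => rw [pow_succ, reverse_mul_of_domain, ih, pow_succ]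

/-- If `P(M) x = 0` then `x` is orthogonal to the range of `(reverse P)(M)`. -/
theorem bilin_ker_orth_range_reverse (B : LinearMap.BilinForm k V) (M : V →ₗ[k] V)
    (hM : ∀ x y : V, B (M x) (M y) = B x y) (P : k[X]) (x : V) (hx : aeval M P x = 0) (z : V) :
    B x (aeval M P.reverse z) = 0 := by
  have := bilin_aeval_reflect B M hM P.natDegree P le_rfl x z
  rw [hx, LinearMap.map_zero, LinearMap.zero_apply] at this
  exact this.symm

theorem bilin_range_reverse_orth_ker (B : LinearMap.BilinForm k V) (M : V →ₗ[k] V)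
    (hM : ∀ x y : V, B (M x) (M y) = B x y) (P : k[X]) (y : V) (hy : aeval M P y = 0) (z : V) :
    B (aeval M P.reverse z) y = 0 := by
  have := bilin_aeval_reflect' B M hM P.natDegree P le_rfl z y
  rw [hy, LinearMap.map_zero] at this
  exact this.symm

theorem bilin_genKer_orth (B : LinearMap.BilinForm k V) (M : V →ₗ[k] V)
    (hM : ∀ x y : V, B (M x) (M y) = B x y)
    (Q₁ Q₂ : k[X]) (h : IsCoprime Q₁.reverse Q₂)
    (x y : V)
    (hx : ∃ n : ℕ, (aeval M Q₁ ^ n) x = 0)
    (hy : ∃ n : ℕ, (aeval M Q₂ ^ n) y = 0) :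
    B x y = 0 := by
  obtain ⟨n, hn⟩ := hx
  obtain ⟨m, hm⟩ := hy
  obtain ⟨a, b, hab⟩ : IsCoprime (Q₁.reverse ^ n) (Q₂ ^ m) := h.pow
  have hy' : y = aeval M ((Q₁ ^ n).reverse) (aeval M a y) := by
    have h1 : aeval M (a * Q₁.reverse ^ n + b * Q₂ ^ m) y = y := by rw [hab]; simp
    rw [map_add, map_mul, map_mul, LinearMap.add_apply, Module.End.mul_apply,
      Module.End.mul_apply, map_pow (aeval M) Q₂ m, hm, map_zero, add_zero] at h1
    rw [reverse_pow']
    conv_lhs => rw [← h1]
    rw [← Module.End.mul_apply, ← Module.End.mul_apply, ← map_mul, ← map_mul, mul_comm]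
  rw [hy']
  apply bilin_ker_orth_range_reverse B M hM
  rw [map_pow]; exact hn

theorem bilin_ker_orth_range_of_assoc (B : LinearMap.BilinForm k V) (M : V →ₗ[k] V)
    (hM : ∀ x y : V, B (M x) (M y) = B x y) (P : k[X]) (hP : Associated P P.reverse)
    (x : V) (hx : aeval M P x = 0) (z : V) :
    B x (aeval M P z) = 0 := by
  obtain ⟨u, hu⟩ := hP
  have h1 : P = P.reverse * ↑u⁻¹ := by rw [← hu, mul_assoc, Units.mul_inv, mul_one]
  have h2 : aeval M P z = aeval M P.reverse (aeval M (↑u⁻¹ : k[X]) z) := by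
    conv_lhs => rw [h1]
    rw [map_mul, Module.End.mul_apply]
  rw [h2]
  exact bilin_ker_orth_range_reverse B M hM P x hx _

theorem bilin_range_orth_ker_of_assoc (B : LinearMap.BilinForm k V) (M : V →ₗ[k] V)
    (hM : ∀ x y : V, B (M x) (M y) = B x y) (P : k[X]) (hP : Associated P P.reverse)
    (y : V) (hy : aeval M P y = 0) (z : V) :
    B (aeval M P z) y = 0 := by
  obtain ⟨u, hu⟩ := hP
  have h1 : P = P.reverse * ↑u⁻¹ := by rw [← hu, mul_assoc, Units.mul_inv, mul_one]
  have h2 : aeval M P z = aeval M P.reverse (aeval M (↑u⁻¹ : k[X]) z) := by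
    conv_lhs => rw [h1]
    rw [map_mul, Module.End.mul_apply]
  rw [h2]
  exact bilin_range_reverse_orth_ker B M hM P y hy _

theorem assoc_pow_reverse (Q : k[X]) (hQ : Associated Q Q.reverse) (n : ℕ) :
    Associated (Q ^ n) (Q ^ n).reverse := by
  rw [reverse_pow']; exact hQ.pow_pow

theorem mem_iSup_ker_pow (f : V →ₗ[k] V) (x : V) :
    x ∈ (⨆ n : ℕ, LinearMap.ker (f ^ n)) ↔ ∃ n : ℕ, (f ^ n) x = 0 := by
  have := Submodule.mem_iSup_of_chain f.iterateKer x
  simpa using this

theorem bilin_restrict_genKer_nondegenerate [FiniteDimensional k V]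
    (B : LinearMap.BilinForm k V) (hB : B.Nondegenerate) (M : V →ₗ[k] V)
    (hM : ∀ x y : V, B (M x) (M y) = B x y)
    (Q : k[X]) (hQ : Associated Q Q.reverse) :
    (B.restrict (⨆ n : ℕ, LinearMap.ker (aeval M Q ^ n))).Nondegenerate := by
  have hc := LinearMap.isCompl_iSup_ker_pow_iInf_range_pow (aeval M Q)
  constructor
  · rintro ⟨x, hxW⟩ hx
    obtain ⟨n, hn⟩ := (mem_iSup_ker_pow _ x).mp hxW
    have : x = 0 := by
      apply hB.1
      intro v
      obtain ⟨w, hw, w', hw', rfl⟩ := Submodule.mem_sup.mp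
        (show v ∈ (⨆ n : ℕ, LinearMap.ker (aeval M Q ^ n)) ⊔ (⨅ n : ℕ, LinearMap.range (aeval M Q ^ n)) by
          rw [hc.sup_eq_top]; trivial)
      have h1 : B x w = 0 := by
        have := hx ⟨w, hw⟩
        simpa using this
      have h2 : B x w' = 0 := by
        obtain ⟨z, rfl⟩ := (Submodule.mem_iInf _).mp hw' n
        rw [← map_pow]
        apply bilin_ker_orth_range_of_assoc B M hM _ (assoc_pow_reverse Q hQ n)
        rw [map_pow]; exact hn
      rw [map_add, h1, h2, add_zero]
    exact Subtype.ext this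
  · rintro ⟨y, hyW⟩ hy
    obtain ⟨n, hn⟩ := (mem_iSup_ker_pow _ y).mp hyW
    have : y = 0 := by
      apply hB.2
      intro v
      obtain ⟨w, hw, w', hw', rfl⟩ := Submodule.mem_sup.mp
        (show v ∈ (⨆ n : ℕ, LinearMap.ker (aeval M Q ^ n)) ⊔ (⨅ n : ℕ, LinearMap.range (aeval M Q ^ n)) by
          rw [hc.sup_eq_top]; trivial)
      have h1 : B w y = 0 := by
        have := hy ⟨w, hw⟩
        simpa using this
      have h2 : B w' y = 0 := by
        obtain ⟨z, rfl⟩ := (Submodule.mem_iInf _).mp hw' n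
        rw [← map_pow]
        apply bilin_range_orth_ker_of_assoc B M hM _ (assoc_pow_reverse Q hQ n)
        rw [map_pow]; exact hn
      rw [map_add, LinearMap.add_apply, h1, h2, add_zero]
    exact Subtype.ext this

end Groth.Agent.H98
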