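import Mathlib.RingTheory.AdicCompletion.Basic

set_option autoImplicit false
universe u v w

namespace Groth.Agent.H98

open scoped Classical in
theorem decaying_iff_adicSum {A : Type u} [CommRing A] (I : Ideal A) (Z : Type v)
    (M : Type w) [AddCommGroup M] [Module A M] [IsAdicComplete I M] (f : Z → M) :
    (∀ n : ℕ, {z | f z ∉ (I ^ n • ⊤ : Submodule A M)}.Finite) ↔ ∃ m : M, ∀ n : ℕ, ∃ S : Finset Z,
      (∀ z, z ∉ S → f z ∈ (I ^ n • ⊤ : Submodule A M)) ∧
        m - (∑ z ∈ S, f z) ∈ (I ^ n • ⊤ : Submodule A M) := by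
  constructor
  · intro h
    -- finite sets
    let S : ℕ → Finset Z := fun n => (h n).toFinset
    let T : ℕ → Finset Z := fun n => (Finset.range (n + 1)).biUnion S
    have hT_mono : ∀ {m n}, m ≤ n → T m ⊆ T n := by
      intro m n hmn
      apply Finset.biUnion_subset_biUnion_of_subset_left
      intro x hx
      simp only [Finset.mem_range] at hx ⊢
      omega
    have hST : ∀ n, S n ⊆ T n := by
      intro n z hz
      simp only [T, Finset.mem_biUnion, Finset.mem_range]
      exact ⟨n, by omega, hz⟩
    have hout : ∀ n z, z ∉ T n → f z ∈ (I ^ n • ⊤ : Submodule A M) := by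
      intro n z hz
      by_contra hc
      apply hz
      apply hST n
      simp only [S, Set.Finite.mem_toFinset, Set.mem_setOf_eq]
      exact hc
    let s : ℕ → M := fun n => ∑ z ∈ T n, f z
    have hcauchy : ∀ {m n}, m ≤ n → s m ≡ s n [SMOD (I ^ m • ⊤ : Submodule A M)] := by
      intro m n hmn
      rw [SModEq.sub_mem]
      have : s m - s n = - ∑ z ∈ T n \ T m, f z := by
        simp only [s]
        rw [← Finset.sum_sdiff (hT_mono hmn)]
        abel
      rw [this]
      apply Submodule.neg_mem
      apply Submodule.sum_mem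
      intro z hz
      exact hout m z (Finset.mem_sdiff.mp hz).2
    obtain ⟨L, hL⟩ := IsPrecomplete.prec (IsAdicComplete.toIsPrecomplete (I := I) (M := M)) hcauchy
    refine ⟨L, fun n => ⟨T n, hout n, ?_⟩⟩
    have := (hL n).symm
    rw [SModEq.sub_mem] at this
    exact this
  · rintro ⟨m, hm⟩ n
    obtain ⟨S, hS, -⟩ := hm n
    refine S.finite_toSet.subset ?_
    intro z hz
    by_contra hc
    exact hz (hS z hc)

end Groth.Agent.H98
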