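import Mathlib.RingTheory.AlgebraicIndependent.TranscendenceBasis
import Mathlib.RingTheory.Algebraic.Integral
import Mathlib.FieldTheory.IntermediateField.Adjoin.Defs
import Mathlib.FieldTheory.IntermediateField.Adjoin.Algebra

set_option autoImplicit false
universe u

namespace Groth.Agent.H98

open Cardinal

section Trdeg

variable {k K L : Type u} [Field k] [Field K] [Field L] [Algebra k K] [Algebra K L] [Algebra k L]
  [IsScalarTower k K L]

/-- the inclusion of an intermediate field `F` of `L/k` into the compositum `K(F)` -/
def toCompositum (F : IntermediateField k L) :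
    F →+* IntermediateField.adjoin K (F : Set L) where
  toFun x := ⟨x, IntermediateField.subset_adjoin K _ x.2⟩
  map_one' := rfl
  map_mul' _ _ := rfl
  map_zero' := rfl
  map_add' _ _ := rfl

omit [Algebra k K] [IsScalarTower k K L] in
theorem toCompositum_coe (F : IntermediateField k L) (x : F) :
    ((toCompositum (K := K) F x : IntermediateField.adjoin K (F : Set L)) : L) = x := rfl

/-- transcendence degree does not increase on passing to a compositum -/
theorem trdeg_compositum_le (F : IntermediateField k L) :
    Algebra.trdeg K (IntermediateField.adjoin K (F : Set L)) ≤ Algebra.trdeg k F := by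
  set E := IntermediateField.adjoin K (F : Set L) with hE
  obtain ⟨s, hs⟩ := exists_isTranscendenceBasis k F
  have hcard : #s = Algebra.trdeg k F := hs.cardinalMk_eq_trdeg
  let ι : F →+* E := toCompositum (K := K) F
  have hι : Function.Injective ι := ι.injective
  let s' : Set E := ι '' s
  set A := Algebra.adjoin k (Set.range (Subtype.val : s → F)) with hA
  set B := Algebra.adjoin K s' with hB
  have hmaps : ∀ x ∈ A, ι x ∈ B := by
    intro x hx
    induction hx using Algebra.adjoin_induction with
    | mem x hx =>
      obtain ⟨⟨y, hy⟩, rfl⟩ := hx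
      exact Algebra.subset_adjoin ⟨y, hy, rfl⟩
    | algebraMap c =>
      have : ι (algebraMap k F c) = algebraMap K E (algebraMap k K c) := by
        apply Subtype.ext
        change algebraMap k L c = algebraMap K L (algebraMap k K c)
        exact IsScalarTower.algebraMap_apply k K L c
      rw [this]
      exact Subalgebra.algebraMap_mem _ _
    | add x y _ _ hx hy => rw [map_add]; exact Subalgebra.add_mem _ hx hy
    | mul x y _ _ hx hy => rw [map_mul]; exact Subalgebra.mul_mem _ hx hy
  let f : A →+* B := RingHom.restrict ι A B hmaps
  have hf : Function.Injective f := by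
    intro a b hab
    apply Subtype.ext
    apply hι
    exact congrArg Subtype.val hab
  haveI : Algebra.IsAlgebraic A F := hs.isAlgebraic
  have hFalg : ∀ x : F, IsAlgebraic B (ι x) := by
    intro x
    have hx : IsAlgebraic A x := Algebra.IsAlgebraic.isAlgebraic x
    exact hx.ringHom_of_comp_eq f ι hf (by ext a; rfl)
  have halg : Algebra.IsAlgebraic B E := by
    refine ⟨fun y => ?_⟩
    obtain ⟨x, hx⟩ := y
    induction hx using IntermediateField.adjoin_induction with
    | mem x hx => exact hFalg ⟨x, hx⟩
    | algebraMap c =>
      exact isAlgebraic_algebraMap (⟨algebraMap K E c, Subalgebra.algebraMap_mem _ _⟩ : B)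
    | add x y hx hy ihx ihy => exact IsAlgebraic.add ihx ihy
    | inv x hx ihx => exact IsAlgebraic.inv_iff.mpr ihx
    | mul x y hx hy ihx ihy => exact IsAlgebraic.mul ihx ihy
  calc Algebra.trdeg K E ≤ #s' := Algebra.IsAlgebraic.trdeg_le_cardinalMk K s'
    _ ≤ #s := Cardinal.mk_image_le
    _ = Algebra.trdeg k F := hcard

end Trdeg

end Groth.Agent.H98
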