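import Groth.Prelude.Def_EssDim
import Groth.Agent.H98.TrdegAdjoin

set_option autoImplicit false
universe w u

namespace Groth.Agent.H98

open CategoryTheory Opposite AlgebraicGeometry

section BC

variable (k : Type u) [Field k] (K : Type u) [Field K] [Algebra k K]

/-- `Spec L` over `Spec K` viewed over `Spec k` is `Spec L` over `Spec k` -/
noncomputable def ptIso (L : Type u) [Field L] [Algebra K L] [Algebra k L] [IsScalarTower k K L] :
    (Over.map (Spec.map (CommRingCat.ofHom (algebraMap k K)))).obj (SGA7.pt (K := K) L) ≅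
      SGA7.pt (K := k) L :=
  Over.isoMk (Iso.refl _) (by
    change 𝟙 _ ≫ Spec.map _ = Spec.map _ ≫ Spec.map _
    rw [Category.id_comp, ← Spec.map_comp, ← CommRingCat.ofHom_comp,
      IsScalarTower.algebraMap_eq k K L])

theorem ptIso_hom_left (L : Type u) [Field L] [Algebra K L] [Algebra k L] [IsScalarTower k K L] :
    (ptIso k K L).hom.left = 𝟙 _ := rfl

variable (P : (Over (Spec (CommRingCat.of k)))ᵒᵖ ⥤ Type w)

theorem ed_baseChange_le :
    EssDim.ed (k := K) ((Over.map (Spec.map (CommRingCat.ofHom (algebraMap k K)))).op ⋙ P) ≤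
      EssDim.ed P := by
  set g := Spec.map (CommRingCat.ofHom (algebraMap k K)) with hg
  set Q := (Over.map g).op ⋙ P with hQ
  rw [EssDim.ed]
  refine iSup_le fun L => iSup_le fun _ => iSup_le fun _ => iSup_le fun ξ => ?_
  letI : Algebra k L := ((algebraMap K L).comp (algebraMap k K)).toAlgebra
  haveI : IsScalarTower k K L := IsScalarTower.of_algebraMap_eq (fun _ => rfl)
  let ξ' : EssDim.FPt P L := P.map (ptIso k K L).inv.op ξ
  refine le_trans ?_ (EssDim.edAt_le_ed ξ')
  rw [WithBot.coe_le_coe]
  conv_rhs => rw [EssDim.edAt]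
  refine le_iInf ?_
  rintro ⟨F, ξ₀, hξ₀⟩
  let E : IntermediateField K L := IntermediateField.adjoin K (F : Set L)
  have hdesc : EssDim.Descends Q ξ E := by
    let j : F →ₐ[k] E :=
      { toCompositum (K := K) F with
        commutes' := by
          intro c
          apply Subtype.ext
          rfl }
    refine ⟨P.map ((ptIso k K E).hom ≫ EssDim.resPt (k := k) j).op ξ₀, ?_⟩
    have hξ : ξ = P.map (ptIso k K L).hom.op ξ' := by
      change ξ = (P.map (ptIso k K L).inv.op ≫ P.map (ptIso k K L).hom.op) ξ
      rw [← P.map_comp, ← op_comp, Iso.hom_inv_id, op_id, P.map_id]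
      rfl
    rw [hξ, ← hξ₀]
    change (P.map _ ≫ P.map ((Over.map g).map (EssDim.resPt (k := K) E.val)).op) ξ₀ =
      (P.map _ ≫ P.map _) ξ₀
    rw [← P.map_comp, ← P.map_comp, ← op_comp, ← op_comp]
    have hmor : (Over.map g).map (EssDim.resPt (k := K) E.val) ≫ (ptIso k K E).hom ≫
        EssDim.resPt (k := k) j = (ptIso k K L).hom ≫ EssDim.resPt (k := k) F.val := by
      ext : 1
      simp only [Over.comp_left, Over.map_map_left, EssDim.resPt_left, ptIso_hom_left]
      rw [Category.id_comp, Category.id_comp, ← Spec.map_comp, ← CommRingCat.ofHom_comp]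
      rfl
    rw [hmor]
  refine le_trans (EssDim.edAt_le_of_descends hdesc) ?_
  exact OrderHomClass.mono Cardinal.toENat (trdeg_compositum_le (K := K) F)

end BC

end Groth.Agent.H98
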