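import Mathlib.RingTheory.Spectrum.Prime.FreeLocus
import Mathlib.Algebra.Module.FinitePresentation
import Mathlib.RingTheory.Localization.Module
import Mathlib.RingTheory.LocalRing.MaximalIdeal.Basic
import Mathlib.RingTheory.Spectrum.Prime.Topology
import Mathlib.Algebra.Category.ModuleCat.Basic
import Mathlib.RingTheory.Ideal.Cotangent

set_option autoImplicit false
universe u

namespace Groth.Agent.H98

open PrimeSpectrum

/-- If `Q` is finitely presented and `Q_p` is projective, a surjection `g : M → Q` splits locally at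
`p` up to an element `t ∉ p`: there is an endomorphism `ρ` of `M` with image in `ker g` which is
multiplication by `t` on `ker g`. -/
theorem exists_local_retraction {A : Type u} [CommRing A] {M Q : Type u} [AddCommGroup M]
    [Module A M] [AddCommGroup Q] [Module A Q] [Module.FinitePresentation A Q]
    (g : M →ₗ[A] Q) (hg : Function.Surjective g) (p : Ideal A) [p.IsPrime]
    [hproj : Module.Projective (Localization.AtPrime p) (LocalizedModule p.primeCompl Q)] :
    ∃ (t : A) (ρ : M →ₗ[A] M), t ∉ p ∧ (∀ x, g (ρ x) = 0) ∧ (∀ x, g x = 0 → ρ x = t • x) := by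
  set S := p.primeCompl with hS
  let gu : LocalizedModule S M →ₗ[Localization S] LocalizedModule S Q := LocalizedModule.map S g
  have gu_surj : Function.Surjective gu := LocalizedModule.map_surjective S g hg
  obtain ⟨σ, hσ⟩ := Module.projective_lifting_property gu LinearMap.id gu_surj
  let ℓM := LocalizedModule.mkLinearMap S M
  let ℓQ := LocalizedModule.mkLinearMap S Q
  obtain ⟨σ', t, hσ'⟩ := Module.FinitePresentation.exists_lift_of_isLocalizedModule S ℓM
    ((σ.restrictScalars A) ∘ₗ ℓQ)
  have h1 : ℓQ ∘ₗ (g ∘ₗ σ') = ℓQ ∘ₗ (t • (LinearMap.id : Q →ₗ[A] Q)) := by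
    ext q
    have e1 : ℓQ (g (σ' q)) = gu (ℓM (σ' q)) := by
      simp only [ℓQ, ℓM, gu, LocalizedModule.mkLinearMap_apply, LocalizedModule.map_mk]
    have e2 : ℓM (σ' q) = t • σ (ℓQ q) := by
      have := congrArg (fun F => F q) hσ'
      simpa using this
    have e3 : gu (σ (ℓQ q)) = ℓQ q := by
      have := congrArg (fun F => F (ℓQ q)) hσ
      simpa using this
    simp only [LinearMap.coe_comp, Function.comp_apply, LinearMap.smul_apply, LinearMap.id_coe, id_eq]
    rw [e1, e2]
    have e4 : gu (t • σ (ℓQ q)) = t • gu (σ (ℓQ q)) := by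
      change gu ((t : A) • σ (ℓQ q)) = (t : A) • gu (σ (ℓQ q))
      exact LinearMap.map_smul_of_tower gu (t : A) _
    rw [e4, e3]
    exact (map_smul ℓQ (t : A) q).symm
  obtain ⟨t₂, ht₂⟩ := Module.Finite.exists_smul_of_comp_eq_of_isLocalizedModule S ℓQ
    (g ∘ₗ σ') (t • (LinearMap.id : Q →ₗ[A] Q)) h1
  have key : ∀ q : Q, (t₂ : A) • g (σ' q) = (t₂ : A) • ((t : A) • q) := by
    intro q
    have := congrArg (fun F => F q) ht₂
    simp only [LinearMap.smul_apply, LinearMap.coe_comp, Function.comp_apply, LinearMap.id_coe,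
      id_eq] at this
    exact this
  refine ⟨(t₂ : A) * (t : A), ((t₂ : A) * (t : A)) • LinearMap.id - ((t₂ : A) • σ') ∘ₗ g,
    S.mul_mem t₂.2 t.2, ?_, ?_⟩
  · intro x
    simp only [LinearMap.sub_apply, LinearMap.smul_apply, LinearMap.id_coe, id_eq,
      LinearMap.coe_comp, Function.comp_apply, map_sub, map_smul]
    rw [key, mul_smul, sub_self]
  · intro x hx
    simp only [LinearMap.sub_apply, LinearMap.smul_apply, LinearMap.id_coe, id_eq,
      LinearMap.coe_comp, Function.comp_apply, hx, map_zero, smul_zero, sub_zero]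


theorem bot_mem_freeLocus {A : Type u} [CommRing A] [IsDomain A] (Q : Type u) [AddCommGroup Q]
    [Module A Q] : (⟨⊥, Ideal.isPrime_bot⟩ : PrimeSpectrum A) ∈ Module.freeLocus A Q := by
  rw [Module.mem_freeLocus]
  have hfield : IsField (Localization.AtPrime (⊥ : Ideal A)) := by
    rw [IsLocalRing.isField_iff_maximalIdeal_eq, ← Localization.AtPrime.map_eq_maximalIdeal,
      Ideal.map_bot]
  letI := hfield.toField
  exact Module.Free.of_divisionRing _ _

theorem genInj_of_sub {A : Type u} [CommRing A] [IsNoetherianRing A] [IsDomain A] {M N : Type u}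
    [AddCommGroup M] [Module A M] [AddCommGroup N] [Module A N] [Module.Finite A M]
    (ι : N →ₗ[A] M) (hι : Function.Injective ι) :
    ∃ V : Set (PrimeSpectrum A), IsOpen V ∧ Dense V ∧ ∀ u ∈ V, ∀ (m : N) (s : A), s ∉ u.asIdeal →
      s • ι m ∈ u.asIdeal • (⊤ : Submodule A M) →
      ∃ s' ∉ u.asIdeal, s' • m ∈ u.asIdeal • (⊤ : Submodule A N) := by
  haveI : Module.FinitePresentation A (M ⧸ LinearMap.range ι) :=
    Module.finitePresentation_of_finite A _
  refine ⟨Module.freeLocus A (M ⧸ LinearMap.range ι), Module.isOpen_freeLocus, ?_, ?_⟩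
  · exact Module.isOpen_freeLocus.dense ⟨_, bot_mem_freeLocus _⟩
  · intro u hu m s hs hmem
    haveI : Module.Free (Localization.AtPrime u.asIdeal)
        (LocalizedModule u.asIdeal.primeCompl (M ⧸ LinearMap.range ι)) := Module.mem_freeLocus.mp hu
    obtain ⟨t, ρ, ht, hρ1, hρ2⟩ := exists_local_retraction (LinearMap.range ι).mkQ
      (Submodule.mkQ_surjective _) u.asIdeal
    have hρrange : ∀ x, ρ x ∈ LinearMap.range ι := fun x => by
      have := hρ1 x
      rwa [Submodule.mkQ_apply, Submodule.Quotient.mk_eq_zero] at this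
    have h2 : ρ (s • ι m) ∈ u.asIdeal • LinearMap.range ι := by
      have : ρ (s • ι m) ∈ (u.asIdeal • (⊤ : Submodule A M)).map ρ := Submodule.mem_map_of_mem hmem
      rw [Submodule.map_smul''] at this
      refine Submodule.smul_mono le_rfl ?_ this
      rintro _ ⟨x, -, rfl⟩
      exact hρrange x
    have h3 : ρ (s • ι m) = ι ((t * s) • m) := by
      have hz : (LinearMap.range ι).mkQ (s • ι m) = 0 := by
        rw [Submodule.mkQ_apply, Submodule.Quotient.mk_eq_zero]
        exact ⟨s • m, map_smul _ _ _⟩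
      rw [hρ2 _ hz, map_smul, mul_smul]
    have h4 : u.asIdeal • LinearMap.range ι = (u.asIdeal • (⊤ : Submodule A N)).map ι := by
      rw [Submodule.map_smul'', Submodule.map_top]
    rw [h3, h4] at h2
    obtain ⟨n, hn, hn'⟩ := h2
    have := hι hn'
    exact ⟨t * s, u.asIdeal.primeCompl.mul_mem ht hs, this ▸ hn⟩

end Groth.Agent.H98
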