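import Groth.Agent.H98.LaurentDeriv
import Groth.Prelude.Def_DeRham
import Mathlib.LinearAlgebra.ExteriorPower.Basic
import Mathlib.RingTheory.Kaehler.Basic

set_option autoImplicit false
universe u

namespace Groth.Agent.H98

open LaurentPolynomial AddMonoidAlgebra

section Basic

variable (k : Type u) [Field k]

local notation "A" => LaurentPolynomial k
local notation "Ωk" => Ω[LaurentPolynomial k⁄k]

/-- a derivation on Laurent polynomials killing `T` is zero -/
theorem derivation_eq_zero_of_T {M : Type*} [AddCommGroup M] [Module (LaurentPolynomial k) M]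
    [Module k M] [IsScalarTower k (LaurentPolynomial k) M]
    (E : Derivation k (LaurentPolynomial k) M) (hE : E (T 1) = 0) (f : LaurentPolynomial k) :
    E f = 0 := by
  have step : ∀ n : ℤ, E (T (n + 1)) = (T 1 : LaurentPolynomial k) • E (T n) := by
    intro n
    rw [T_add, Derivation.leibniz, hE, smul_zero, zero_add]
  have hT : ∀ n : ℤ, E (T n) = 0 := by
    intro n
    induction n using Int.induction_on with
    | zero => rw [T_zero]; exact Derivation.map_one_eq_zero E
    | succ i hi => rw [step, hi, smul_zero]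
    | pred i hi =>
      have h1 := step (-(i : ℤ) - 1)
      rw [sub_add_cancel, hi] at h1
      have h2 : (T (-1) : LaurentPolynomial k) • ((T 1 : LaurentPolynomial k) • E (T (-(i : ℤ) - 1))) = 0 := by
        rw [← h1, smul_zero]
      rw [← mul_smul, ← T_add] at h2
      simpa using h2
  induction f using AddMonoidAlgebra.induction_linear with
  | zero => exact map_zero _
  | add f g hf hg => rw [map_add, hf, hg, add_zero]
  | single n a =>
    rw [single_eq_C_mul_T, C_eq_algebraMap, ← Algebra.smul_def, Derivation.map_smul, hT, smul_zero]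

theorem laurentDeriv_T_one : laurentDeriv k (T 1 : LaurentPolynomial k) = 1 := by
  rw [T, laurentDeriv_single]
  simp

/-- `D f = f' • D T` -/
theorem D_eq_laurentDeriv_smul (f : LaurentPolynomial k) :
    KaehlerDifferential.D k (LaurentPolynomial k) f =
      laurentDeriv k f • KaehlerDifferential.D k (LaurentPolynomial k) (T 1) := by
  let ω := KaehlerDifferential.D k (LaurentPolynomial k) (T 1)
  let D2 : Derivation k (LaurentPolynomial k) (Ω[LaurentPolynomial k⁄k]) :=
    (LinearMap.toSpanSingleton (LaurentPolynomial k) (Ω[LaurentPolynomial k⁄k]) ω).compDer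
      (laurentDeriv k)
  have h := derivation_eq_zero_of_T k (KaehlerDifferential.D k (LaurentPolynomial k) - D2) (by
    rw [Derivation.sub_apply]
    change ω - (laurentDeriv k (T 1)) • ω = 0
    rw [laurentDeriv_T_one, one_smul, sub_self]) f
  have h2 : KaehlerDifferential.D k (LaurentPolynomial k) f - D2 f = 0 := h
  exact sub_eq_zero.mp h2

theorem span_D_T : Submodule.span (LaurentPolynomial k)
    {KaehlerDifferential.D k (LaurentPolynomial k) (T 1)} = ⊤ := by
  rw [eq_top_iff, ← KaehlerDifferential.span_range_derivation k (LaurentPolynomial k)]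
  apply Submodule.span_le.mpr
  rintro _ ⟨f, rfl⟩
  change KaehlerDifferential.D k (LaurentPolynomial k) f ∈ _
  rw [D_eq_laurentDeriv_smul k f]
  exact Submodule.smul_mem _ _ (Submodule.subset_span rfl)

theorem laurentDeriv_coeff_neg_one (f : LaurentPolynomial k) : (laurentDeriv k f).coeff (-1) = 0 := by
  rw [laurentDeriv_coeff]
  simp

/-- antiderivatives modulo the residue term -/
theorem exists_antideriv [CharZero k] (g : LaurentPolynomial k) :
    ∃ f : LaurentPolynomial k, g = laurentDeriv k f + g.coeff (-1) • (T (-1) : LaurentPolynomial k) := by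
  induction g using AddMonoidAlgebra.induction_linear with
  | zero => exact ⟨0, by simp⟩
  | add g1 g2 h1 h2 =>
    obtain ⟨f1, e1⟩ := h1
    obtain ⟨f2, e2⟩ := h2
    refine ⟨f1 + f2, ?_⟩
    have hc : (g1 + g2).coeff (-1) = g1.coeff (-1) + g2.coeff (-1) := by simp
    rw [hc, map_add, add_smul]
    conv_lhs => rw [e1, e2]
    abel
  | single n a =>
    by_cases hn : n = -1
    · subst hn
      refine ⟨0, ?_⟩
      rw [map_zero, zero_add, coeff_single, Finsupp.single_eq_same, T, AddMonoidAlgebra.smul_single,
        smul_eq_mul, mul_one]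
    · refine ⟨single (n + 1) (a / ((n + 1 : ℤ) : k)), ?_⟩
      have hne : ((n + 1 : ℤ) : k) ≠ 0 := by
        rw [Int.cast_ne_zero]; omega
      rw [laurentDeriv_single, coeff_single, Finsupp.single_eq_of_ne (by omega), zero_smul, add_zero,
        add_sub_cancel_right, mul_div_cancel₀ _ hne]

end Basic


section Ext

open exteriorPower

/-- exterior powers `⋀^(p+2)` of a cyclic module vanish -/
theorem subsingleton_exteriorPower_of_cyclic {R M : Type*} [CommRing R] [AddCommGroup M] [Module R M]
    (ω : M) (hω : Submodule.span R {ω} = ⊤) (p : ℕ) : Subsingleton ↥(⋀[R]^(p + 2) M) := by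
  have h := exteriorPower.ιMulti_span_of_span (R := R) (n := p + 2) (M := M) hω
  have h0 : Submodule.span R (ιMulti R (p + 2) '' {a : Fin (p + 2) → M | Set.range a ⊆ {ω}}) = ⊥ := by
    rw [Submodule.span_eq_bot]
    rintro x ⟨a, ha, rfl⟩
    have h0 : a 0 = ω := by
      have := ha (Set.mem_range_self 0); simpa using this
    have h1 : a 1 = ω := by
      have := ha (Set.mem_range_self 1); simpa using this
    exact AlternatingMap.map_eq_zero_of_eq _ a (h0.trans h1.symm) (by simp)
  rw [h0] at h
  refine ⟨fun x y => ?_⟩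
  have hx : x ∈ (⊥ : Submodule R ↥(⋀[R]^(p + 2) M)) := by rw [h]; trivial
  have hy : y ∈ (⊥ : Submodule R ↥(⋀[R]^(p + 2) M)) := by rw [h]; trivial
  rw [Submodule.mem_bot] at hx hy
  rw [hx, hy]

end Ext

section Main

open exteriorPower

variable (k : Type u) [Field k] [CharZero k]

theorem gm_deRham
    (d : ∀ p : ℕ, ↥(⋀[LaurentPolynomial k]^p (Ω[LaurentPolynomial k⁄k])) →ₗ[k]
      ↥(⋀[LaurentPolynomial k]^(p + 1) (Ω[LaurentPolynomial k⁄k])))
    (hd : DeRham.IsDiff (KaehlerDifferential.D k (LaurentPolynomial k)) d) :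
    DeRham.cocycles d 1 = ⊤ ∧
    IsCompl (DeRham.coboundaries d 1)
      (Submodule.span k {DeRham.gen (KaehlerDifferential.D k (LaurentPolynomial k)) 1
        (LaurentPolynomial.T (-1)) (fun _ => LaurentPolynomial.T 1)}) ∧
    DeRham.gen (KaehlerDifferential.D k (LaurentPolynomial k)) 1
        (LaurentPolynomial.T (-1)) (fun _ => LaurentPolynomial.T 1) ∉ DeRham.coboundaries d 1 ∧
    ∀ i : ℕ, DeRham.cocycles d (i + 2) ≤ DeRham.coboundaries d (i + 2) := by
  set D := KaehlerDifferential.D k (LaurentPolynomial k) with hD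
  set ω := D (T 1) with hω
  have hsub : ∀ p : ℕ, Subsingleton ↥(⋀[LaurentPolynomial k]^(p + 2) (Ω[LaurentPolynomial k⁄k])) :=
    fun p => subsingleton_exteriorPower_of_cyclic ω (span_D_T k) p
  let e := exteriorPower.oneEquiv (LaurentPolynomial k) (Ω[LaurentPolynomial k⁄k])
  let z := exteriorPower.zeroEquiv (LaurentPolynomial k) (Ω[LaurentPolynomial k⁄k])
  let lam : (Ω[LaurentPolynomial k⁄k]) →ₗ[LaurentPolynomial k] LaurentPolynomial k :=
    (laurentDeriv k).liftKaehlerDifferential
  have hlam : ∀ f, lam (D f) = laurentDeriv k f := fun f =>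
    (laurentDeriv k).liftKaehlerDifferential_comp_D f
  set g0 := DeRham.gen D 1 (LaurentPolynomial.T (-1)) (fun _ => LaurentPolynomial.T 1) with hg0
  -- (a)
  have ha : ∀ x, e (d 0 x) = D (z x) := by
    intro x
    have hx : x = DeRham.gen D 0 (z x) Fin.elim0 := by
      rw [DeRham.gen]
      apply z.injective
      rw [map_smul, exteriorPower.zeroEquiv_ιMulti, smul_eq_mul, mul_one]
    conv_lhs => rw [hx, hd.1 0 (z x) Fin.elim0]
    rw [exteriorPower.oneEquiv_ιMulti]
    rfl
  -- (b)
  have hb : e g0 = (T (-1) : LaurentPolynomial k) • ω := by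
    rw [hg0, DeRham.gen, map_smul, exteriorPower.oneEquiv_ιMulti]
  -- residue computations
  have hres_g0 : (lam (e g0)).coeff (-1) = 1 := by
    rw [hb, map_smul, hω, hlam, laurentDeriv_T_one, smul_eq_mul, mul_one]
    simp
  have hres_d : ∀ x, (lam (e (d 0 x))).coeff (-1) = 0 := by
    intro x
    rw [ha, hlam, laurentDeriv_coeff_neg_one]
  have hek : ∀ (c : k) y, e (c • y) = c • e y := by
    intro c y
    exact LinearMap.map_smul_of_tower e.toLinearMap c y
  have hlamk : ∀ (c : k) y, lam (c • y) = c • lam y := by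
    intro c y
    exact LinearMap.map_smul_of_tower lam c y
  refine ⟨?_, ⟨?_, ?_⟩, ?_, ?_⟩
  · -- all 1-forms closed
    rw [eq_top_iff]
    intro x _
    rw [DeRham.cocycles, LinearMap.mem_ker]
    exact (hsub 0).elim _ _
  · -- disjoint
    rw [Submodule.disjoint_def]
    intro y hy1 hy2
    obtain ⟨x, rfl⟩ := hy1
    obtain ⟨c, hc⟩ := Submodule.mem_span_singleton.mp hy2
    have h1 := hres_d x
    rw [← hc, hek, hlamk] at h1
    have h2 : (c • lam (e g0)).coeff (-1) = c * (lam (e g0)).coeff (-1) := by
      simp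
    rw [h2, hres_g0, mul_one] at h1
    rw [← hc, h1, zero_smul]
  · -- codisjoint
    rw [codisjoint_iff, eq_top_iff]
    intro y _
    have hy : e y ∈ Submodule.span (LaurentPolynomial k) {ω} := by rw [span_D_T k]; trivial
    obtain ⟨g, hg⟩ := Submodule.mem_span_singleton.mp hy
    obtain ⟨f, hf⟩ := exists_antideriv k g
    have key : y = d 0 (z.symm f) + g.coeff (-1) • g0 := by
      apply e.injective
      rw [map_add, ha, LinearEquiv.apply_symm_apply, hek, hb, ← hg]
      conv_lhs => rw [hf]
      rw [add_smul, D_eq_laurentDeriv_smul k f, smul_assoc]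
    rw [key]
    apply Submodule.add_mem_sup
    · exact ⟨_, rfl⟩
    · exact Submodule.smul_mem _ _ (Submodule.subset_span rfl)
  · -- not exact
    rintro ⟨x, hx⟩
    have h1 := hres_d x
    rw [hx, hres_g0] at h1
    exact one_ne_zero h1
  · intro i x _
    have : x = 0 := (hsub i).elim _ _
    rw [this]
    exact Submodule.zero_mem _

end Main

end Groth.Agent.H98
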