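import Groth.Agent.H98.GrFlip
import Mathlib.RingTheory.Artinian.Module

set_option autoImplicit false
universe u

namespace Groth.Agent.H98

section Shift

variable {k : Type u} [Field k] {R : Type u} [CommRing R] [Algebra k R]
  (𝒜 : ℤ → Submodule k R) [GradedAlgebra 𝒜]
  {D : Type u} [AddCommGroup D] [Module R D] [Module k D] [IsScalarTower k R D]
  (𝒟 : ℤ → AddSubgroup D) [DirectSum.Decomposition 𝒟] [SetLike.GradedSMul 𝒜 𝒟]
  (hpos : ∀ n : ℤ, n < 0 → 𝒜 n = ⊥)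

/-- multiplication by a homogeneous element of degree `j` shifts components by `j` -/
theorem gp_smul_homog {j : ℤ} {r : R} (hr : r ∈ 𝒜 j) (p : ℤ) (d : D) :
    gp 𝒜 𝒟 (p + j) (r • d) = r • gp 𝒜 𝒟 p d := by
  have hsh := decompose_map_shift 𝒟 𝒟 (DistribSMul.toAddMonoidHom D r) j
    (fun i w hw => by
      have := SetLike.GradedSMul.smul_mem (A := 𝒜) (B := 𝒟) hr hw
      rw [vadd_eq_add, add_comm] at this
      exact this) d p
  exact hsh

theorem smul_mem_geSub_add {j p : ℤ} {r : R} (hr : r ∈ 𝒜 j) {d : D}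
    (hd : d ∈ geSub 𝒜 𝒟 hpos p) : r • d ∈ geSub 𝒜 𝒟 hpos (p + j) := by
  intro m hm
  have h1 := gp_smul_homog 𝒜 𝒟 hr (m - j) d
  rw [sub_add_cancel] at h1
  have h2 : gp 𝒜 𝒟 (m - j) d = 0 := hd (m - j) (by omega)
  rw [h2, smul_zero] at h1
  exact h1

/-- an element all of whose components vanish is zero -/
theorem eq_zero_of_gp_eq_zero (d : D) (h : ∀ n, gp 𝒜 𝒟 n d = 0) : d = 0 := by
  classical
  rw [← sum_support_gproj 𝒟 (smul_mem_piece 𝒜 𝒟) d]
  exact Finset.sum_eq_zero (fun n _ => h n)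

theorem exists_mem_geSub (d : D) : ∃ p : ℤ, d ∈ geSub 𝒜 𝒟 hpos p := by
  classical
  obtain ⟨p, hp⟩ := exists_geSub_of_finset 𝒜 𝒟 hpos {d}
  exact ⟨p, hp d (Finset.mem_singleton_self d)⟩

end Shift

section Artin

variable {k : Type u} [Field k] {R : Type u} [CommRing R] [Algebra k R]
  (𝒜 : ℤ → Submodule k R) [GradedAlgebra 𝒜]
  {M : Type u} [AddCommGroup M] [Module R M] [Module k M] [IsScalarTower k R M]
  (ℳ : ℤ → AddSubgroup M) [DirectSum.Decomposition ℳ] [SetLike.GradedSMul 𝒜 ℳ]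
  {D : Type u} [AddCommGroup D] [Module R D] [Module k D] [IsScalarTower k R D]
  (𝒟 : ℤ → AddSubgroup D) [DirectSum.Decomposition 𝒟] [SetLike.GradedSMul 𝒜 𝒟]
  (β : D →ₗ[k] M →ₗ[k] k) (hD : GrSeg.IsGDual R ℳ 𝒟 β)
  (hpos : ∀ n : ℤ, n < 0 → 𝒜 n = ⊥)

/-- the annihilator in `M` of the module of lowest forms of `N ⊆ M^*` -/
def lowPerp (N : Submodule R D) : Submodule R M where
  carrier := {x | ∀ (p : ℤ) (d : D), d ∈ N → d ∈ geSub 𝒜 𝒟 hpos p → β (gp 𝒜 𝒟 p d) x = 0}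
  add_mem' := by
    intro a b ha hb p d hdN hdp
    rw [map_add, ha p d hdN hdp, hb p d hdN hdp, add_zero]
  zero_mem' := by
    intro p d _ _
    rw [map_zero]
  smul_mem' := by
    intro r x hx p d hdN hdp
    rw [← hD.map_smul]
    induction r using DirectSum.Decomposition.inductionOn 𝒜 with
    | zero => rw [zero_smul, map_zero, LinearMap.zero_apply]
    | @homogeneous j r =>
      rw [← gp_smul_homog 𝒜 𝒟 r.2 p d]
      exact hx (p + j) ((r : R) • d) (N.smul_mem _ hdN) (smul_mem_geSub_add 𝒜 𝒟 hpos r.2 hdp)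
    | add a b ha hb => rw [add_smul, map_add, LinearMap.add_apply, ha, hb, add_zero]

theorem lowPerp_anti {N N' : Submodule R D} (h : N ≤ N') :
    lowPerp 𝒜 ℳ 𝒟 β hD hpos N' ≤ lowPerp 𝒜 ℳ 𝒟 β hD hpos N := by
  intro x hx p d hdN hdp
  exact hx p d (h hdN) hdp

theorem le_of_lowPerp_le (hfin : ∀ n, Module.Finite k (pieceSub 𝒜 ℳ n)) (b : ℤ)
    (hb : ∀ n : ℤ, b < n → ∀ d ∈ 𝒟 n, d = 0) {N N' : Submodule R D} (hle : N ≤ N')
    (hΦ : lowPerp 𝒜 ℳ 𝒟 β hD hpos N ≤ lowPerp 𝒜 ℳ 𝒟 β hD hpos N') : N' ≤ N := by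
  have key : ∀ (t : ℕ) (d : D), d ∈ N' → d ∈ geSub 𝒜 𝒟 hpos (b + 1 - t) → d ∈ N := by
    intro t
    induction t with
    | zero =>
      intro d _ hdp
      have : d = 0 := by
        apply eq_zero_of_gp_eq_zero 𝒜 𝒟
        intro m
        by_cases hm : m < b + 1
        · exact hdp m (by push_cast; omega)
        · exact hb m (by omega) _ (gproj_mem 𝒟 _ m d)
      rw [this]; exact N.zero_mem
    | succ t ih =>
      intro d hdN' hdp
      set p : ℤ := b + 1 - ((t + 1 : ℕ) : ℤ) with hp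
      let W : Submodule k D :=
        ((N ⊓ geSub 𝒜 𝒟 hpos p).restrictScalars k).map (gp 𝒜 𝒟 p)
      by_cases hW : gp 𝒜 𝒟 p d ∈ W
      · obtain ⟨y, hy, hyd⟩ := hW
        have hyN : y ∈ N := hy.1
        have hyp : y ∈ geSub 𝒜 𝒟 hpos p := hy.2
        have hsub : d - y ∈ N := by
          apply ih (d - y) (N'.sub_mem hdN' (hle hyN))
          intro m hm
          have hm' : m < p + 1 := by rw [hp]; push_cast at hm ⊢; omega
          by_cases hmp : m < p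
          · have h1 : gp 𝒜 𝒟 m d = 0 := hdp m hmp
            have h2 : gp 𝒜 𝒟 m y = 0 := hyp m hmp
            change gp 𝒜 𝒟 m (d - y) = 0
            rw [map_sub, h1, h2, sub_zero]
          · have hmeq : m = p := by omega
            change gp 𝒜 𝒟 m (d - y) = 0
            rw [hmeq, map_sub, hyd, sub_self]
        have : d = (d - y) + y := by abel
        rw [this]
        exact N.add_mem hsub hyN
      · exfalso
        haveI := hfin (-p)
        obtain ⟨x, hx, hxW, hxd⟩ := exists_sep 𝒜 ℳ 𝒟 β hD p W (gp 𝒜 𝒟 p d) (gproj_mem 𝒟 _ p d) hW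
        have hxΦ : x ∈ lowPerp 𝒜 ℳ 𝒟 β hD hpos N := by
          intro q e heN heq
          by_cases hqp : q = p
          · subst hqp
            exact hxW _ ⟨e, ⟨heN, heq⟩, rfl⟩ (gproj_mem 𝒟 _ _ e)
          · exact hD.vanish q _ (gproj_mem 𝒟 _ q e) (-p) (by omega) x hx
        exact hxd (hΦ hxΦ p d hdN' hdp)
  intro d hd
  obtain ⟨p, hp⟩ := exists_mem_geSub 𝒜 𝒟 hpos d
  apply key (b + 1 - p).toNat d hd
  apply geSub_anti 𝒜 𝒟 hpos _ hp
  have := Int.self_le_toNat (b + 1 - p)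
  omega

theorem lowPerp_strictAnti (hfin : ∀ n, Module.Finite k (pieceSub 𝒜 ℳ n)) (b : ℤ)
    (hb : ∀ n : ℤ, b < n → ∀ d ∈ 𝒟 n, d = 0) :
    StrictAnti (lowPerp 𝒜 ℳ 𝒟 β hD hpos) := by
  intro N N' h
  refine lt_iff_le_not_ge.mpr ⟨lowPerp_anti 𝒜 ℳ 𝒟 β hD hpos (le_of_lt h), ?_⟩
  intro hge
  exact not_le_of_gt h (le_of_lowPerp_le 𝒜 ℳ 𝒟 β hD hpos hfin b hb (le_of_lt h) hge)

include hD hpos in
/-- the graded dual of a Noetherian graded module with finite-dimensional pieces, bounded below, is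
Artinian -/
theorem isArtinian_gdual [IsNoetherian R M] (hfin : ∀ n, Module.Finite k (pieceSub 𝒜 ℳ n))
    (n₀ : ℤ) (hn₀ : ∀ n < n₀, ∀ x ∈ ℳ n, x = 0) : IsArtinian R D := by
  have hb : ∀ n : ℤ, -n₀ < n → ∀ d ∈ 𝒟 n, d = 0 := by
    intro n hn d hd
    apply hD.eq_zero n d hd
    intro x hx
    rw [hn₀ (-n) (by omega) x hx, map_zero]
  exact (lowPerp_strictAnti 𝒜 ℳ 𝒟 β hD hpos hfin (-n₀) hb).wellFoundedLT

end Artin

end Groth.Agent.H98
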