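import Groth.Agent.H98.GrArtin
import Mathlib.RingTheory.FiniteLength
import Mathlib.RingTheory.SimpleModule.Basic
import Mathlib.Data.Int.Interval

set_option autoImplicit false
universe u

namespace Groth.Agent.H98

section FD

variable {k : Type u} [Field k] {R : Type u} [CommRing R] [Algebra k R]
  {M : Type u} [AddCommGroup M] [Module R M] [Module k M] [IsScalarTower k R M]

/-- a `k`-subspace `V` of an Artinian `R`-module such that `R U ∩ V ⊆ U` for all subspaces `U ⊆ V` is
finite-dimensional -/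
theorem finite_of_isArtinian_of_span_inf_le [IsArtinian R M] (V : Submodule k M)
    (h : ∀ U : Submodule k M, U ≤ V → ∀ y ∈ Submodule.span R (U : Set M), y ∈ V → y ∈ U) :
    Module.Finite k V := by
  let Ψ : Submodule k V → Submodule R M := fun U => Submodule.span R ((U.map V.subtype : Submodule k M) : Set M)
  have hΨ : StrictMono Ψ := by
    intro U U' hlt
    refine lt_iff_le_not_ge.mpr ⟨Submodule.span_mono (fun x hx => ?_), ?_⟩
    · obtain ⟨u, hu, rfl⟩ := hx
      exact ⟨u, le_of_lt hlt hu, rfl⟩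
    · intro hge
      apply not_le_of_gt hlt
      intro u' hu'
      have h1 : (u' : M) ∈ Ψ U' := Submodule.subset_span ⟨u', hu', rfl⟩
      have h2 : (u' : M) ∈ (U.map V.subtype : Submodule k M) :=
        h (U.map V.subtype) (by rintro _ ⟨u, _, rfl⟩; exact u.2) _ (hge h1) u'.2
      obtain ⟨u, hu, hueq⟩ := h2
      have : u = u' := Subtype.ext hueq
      rwa [← this]
  haveI : IsArtinian k V := hΨ.wellFoundedLT
  exact ((IsSemisimpleModule.finite_tfae (R := k) (M := V)).out 0 2).mpr this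

end FD

section ArtinDual

variable {k : Type u} [Field k] {R : Type u} [CommRing R] [Algebra k R]
  (𝒜 : ℤ → Submodule k R) [GradedAlgebra 𝒜]
  {M : Type u} [AddCommGroup M] [Module R M] [Module k M] [IsScalarTower k R M]
  (ℳ : ℤ → AddSubgroup M) [DirectSum.Decomposition ℳ] [SetLike.GradedSMul 𝒜 ℳ]
  (hpos : ∀ n : ℤ, n < 0 → 𝒜 n = ⊥) (h0 : 𝒜 0 = Submodule.span k {(1 : R)})

include hpos h0 in
/-- the pieces of an Artinian graded module are finite-dimensional -/
theorem finite_pieceSub_of_isArtinian [IsArtinian R M] (n : ℤ) :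
    Module.Finite k (pieceSub 𝒜 ℳ n) := by
  apply finite_of_isArtinian_of_span_inf_le (R := R)
  intro U hU y hy hyV
  have key : ∀ y ∈ Submodule.span R (U : Set M), y ∈ geSub 𝒜 ℳ hpos n ∧ gp 𝒜 ℳ n y ∈ U := by
    intro y hy
    induction hy using Submodule.span_induction with
    | mem u hu =>
      have hun : u ∈ ℳ n := hU hu
      refine ⟨piece_le_geSub 𝒜 ℳ hpos hun, ?_⟩
      rw [gproj_of_mem_same ℳ _ hun]; exact hu
    | zero => exact ⟨Submodule.zero_mem _, by rw [map_zero]; exact U.zero_mem⟩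
    | add a b _ _ ha hb =>
      exact ⟨Submodule.add_mem _ ha.1 hb.1, by rw [map_add]; exact U.add_mem ha.2 hb.2⟩
    | smul r a _ ha =>
      refine ⟨Submodule.smul_mem _ r ha.1, ?_⟩
      rw [gp_smul_of_mem_ge 𝒜 ℳ hpos n r a ha.1]
      have hr0 : ((DirectSum.decompose 𝒜 r 0 : 𝒜 0) : R) ∈ Submodule.span k {(1 : R)} := by
        rw [← h0]; exact SetLike.coe_mem _
      obtain ⟨c, hc⟩ := Submodule.mem_span_singleton.mp hr0
      rw [← hc, smul_assoc, one_smul]
      exact U.smul_mem c ha.2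
  have := (key y hy).2
  rwa [gproj_of_mem_same ℳ _ hyV] at this

include hpos in
/-- an Artinian graded module is bounded above -/
theorem exists_bound_above [IsArtinian R M] : ∃ t₀ : ℤ, ∀ n : ℤ, t₀ ≤ n → ∀ x ∈ ℳ n, x = 0 := by
  let f : ℕ →o (Submodule R M)ᵒᵈ :=
    { toFun := fun t => OrderDual.toDual (geSub 𝒜 ℳ hpos (t : ℤ))
      monotone' := by
        intro a b hab
        exact geSub_anti 𝒜 ℳ hpos (by exact_mod_cast hab) }
  obtain ⟨t₀, ht₀⟩ := IsArtinian.monotone_stabilizes f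
  refine ⟨t₀, ?_⟩
  intro n hn x hx
  have hn0 : 0 ≤ n := le_trans (by positivity) hn
  have h1 : f t₀ = f (n.toNat + 1) := ht₀ _ (by omega)
  have h1' : geSub 𝒜 ℳ hpos (t₀ : ℤ) = geSub 𝒜 ℳ hpos ((n.toNat + 1 : ℕ) : ℤ) :=
    OrderDual.toDual.injective h1
  have hx1 : x ∈ geSub 𝒜 ℳ hpos (t₀ : ℤ) := geSub_anti 𝒜 ℳ hpos hn (piece_le_geSub 𝒜 ℳ hpos hx)
  rw [h1'] at hx1
  have := hx1 n (by push_cast; omega)
  rwa [DirectSum.decompose_of_mem_same ℳ hx] at this

variable {D : Type u} [AddCommGroup D] [Module R D] [Module k D] [IsScalarTower k R D]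
  (𝒟 : ℤ → AddSubgroup D) [DirectSum.Decomposition 𝒟] [SetLike.GradedSMul 𝒜 𝒟]
  (β : D →ₗ[k] M →ₗ[k] k) (hD : GrSeg.IsGDual R ℳ 𝒟 β)

/-- the span of a set of homogeneous elements is closed under the graded projections -/
theorem gp_mem_span_homog (S : Set D) (hS : ∀ s ∈ S, ∃ n, s ∈ 𝒟 n) (d : D)
    (hd : d ∈ Submodule.span R S) (q : ℤ) : gp 𝒜 𝒟 q d ∈ Submodule.span R S := by
  induction hd using Submodule.span_induction generalizing q with
  | mem s hs =>
    obtain ⟨n, hn⟩ := hS s hs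
    by_cases hnq : n = q
    · subst hnq; rw [gproj_of_mem_same 𝒟 _ hn]; exact Submodule.subset_span hs
    · rw [gproj_of_mem_ne 𝒟 _ hn hnq]; exact Submodule.zero_mem _
  | zero => rw [map_zero]; exact Submodule.zero_mem _
  | add a b _ _ ha hb => rw [map_add]; exact Submodule.add_mem _ (ha q) (hb q)
  | smul r a _ ha =>
    induction r using DirectSum.Decomposition.inductionOn 𝒜 with
    | zero => rw [zero_smul, map_zero]; exact Submodule.zero_mem _
    | @homogeneous j r =>
      have := gp_smul_homog 𝒜 𝒟 r.2 (q - j) a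
      rw [sub_add_cancel] at this
      rw [this]
      exact Submodule.smul_mem _ _ (ha (q - j))
    | add r r' hr hr' => rw [add_smul, map_add]; exact Submodule.add_mem _ hr hr'

/-- the annihilator in `M` of a submodule of `M^*` -/
def perpR (E : Submodule R D) : Submodule R M where
  carrier := {x | ∀ e ∈ E, β e x = 0}
  add_mem' := by intro a b ha hb e he; rw [map_add, ha e he, hb e he, add_zero]
  zero_mem' := by intro e _; rw [map_zero]
  smul_mem' := by
    intro r x hx e he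
    rw [← hD.map_smul]
    exact hx _ (E.smul_mem r he)

/-- the submodule of `M^*` generated by the pieces of degree `≤ p` -/
def lowSpan (p : ℤ) : Submodule R D := Submodule.span R {d | ∃ n ≤ p, d ∈ 𝒟 n}

theorem lowSpan_mono {p p' : ℤ} (h : p ≤ p') : lowSpan (R := R) 𝒟 p ≤ lowSpan (R := R) 𝒟 p' :=
  Submodule.span_mono (fun _ ⟨n, hn, hd⟩ => ⟨n, le_trans hn h, hd⟩)

include hD in
/-- pieces of the graded dual are finite-dimensional when those of `M` are -/
theorem finite_pieceSub_gdual (n : ℤ) [Module.Finite k (pieceSub 𝒜 ℳ (-n))] :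
    Module.Finite k (pieceSub 𝒜 𝒟 n) := by
  set V := pieceSub 𝒜 ℳ (-n) with hV
  let res : pieceSub 𝒜 𝒟 n →ₗ[k] Module.Dual k V :=
    ((LinearMap.lcomp k k V.subtype).comp β).comp (pieceSub 𝒜 𝒟 n).subtype
  have hres : ∀ (e : pieceSub 𝒜 𝒟 n) (v : V), res e v = β (e : D) (v : M) := fun e v => rfl
  apply Module.Finite.of_injective res
  rw [← LinearMap.ker_eq_bot, LinearMap.ker_eq_bot']
  intro d hd
  apply Subtype.ext
  apply hD.eq_zero n _ d.2
  intro x hx
  have := congrArg (fun F => F (⟨x, hx⟩ : V)) hd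
  simpa [hres] using this

include hD hpos h0 in
/-- the graded dual of an Artinian graded module is finitely generated -/
theorem finite_gdual_of_isArtinian [IsArtinian R M] : Module.Finite R D := by
  classical
  have hfin : ∀ n, Module.Finite k (pieceSub 𝒜 ℳ n) :=
    finite_pieceSub_of_isArtinian 𝒜 ℳ hpos h0
  obtain ⟨t₁, ht₁⟩ := exists_bound_above 𝒜 ℳ hpos
  have hbelow : ∀ n : ℤ, n ≤ -t₁ → ∀ d ∈ 𝒟 n, d = 0 := by
    intro n hn d hd
    apply hD.eq_zero n d hd
    intro x hx
    rw [ht₁ (-n) (by omega) x hx, map_zero]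
  -- the chain of annihilators stabilises
  let g : ℕ →o (Submodule R M)ᵒᵈ :=
    { toFun := fun t => OrderDual.toDual (perpR ℳ 𝒟 β hD (lowSpan (R := R) 𝒟 (t : ℤ)))
      monotone' := by
        intro a b hab x hx e he
        exact hx e (lowSpan_mono 𝒟 (by exact_mod_cast hab) he) }
  obtain ⟨t₀, ht₀⟩ := IsArtinian.monotone_stabilizes g
  set E := lowSpan (R := R) 𝒟 (t₀ : ℤ) with hE
  have hEhom : ∀ (e : D), e ∈ E → ∀ q, gp 𝒜 𝒟 q e ∈ E := by
    intro e he q
    exact gp_mem_span_homog 𝒜 𝒟 _ (fun s hs => by obtain ⟨n, _, hs⟩ := hs; exact ⟨n, hs⟩) e he q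
  have hpiece : ∀ (n : ℤ) (d : D), d ∈ 𝒟 n → d ∈ E := by
    intro n d hd
    by_cases hn : n ≤ t₀
    · exact Submodule.subset_span ⟨n, hn, hd⟩
    · by_contra hdE
      haveI := hfin (-n)
      obtain ⟨x, hx, hxW, hxd⟩ := exists_sep 𝒜 ℳ 𝒟 β hD n (E.restrictScalars k) d hd hdE
      have hxE : x ∈ perpR ℳ 𝒟 β hD E := by
        intro e he
        rw [beta_comp_eq 𝒜 ℳ 𝒟 β hD hx e]
        exact hxW _ (hEhom e he n) (gproj_mem 𝒟 _ n e)
      have h1 : g t₀ = g n.toNat := ht₀ _ (by omega)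
      have h1' : perpR ℳ 𝒟 β hD E = perpR ℳ 𝒟 β hD (lowSpan (R := R) 𝒟 ((n.toNat : ℕ) : ℤ)) :=
        OrderDual.toDual.injective h1
      rw [h1'] at hxE
      apply hxd
      apply hxE
      exact Submodule.subset_span ⟨n, by omega, hd⟩
  have hfinD : ∀ n, Module.Finite k (pieceSub 𝒜 𝒟 n) := fun n => by
    haveI := hfin (-n)
    exact finite_pieceSub_gdual 𝒜 ℳ 𝒟 β hD n
  have hZ : ∀ n : ℤ, ∃ Z : Finset D, Submodule.span k (Z : Set D) = pieceSub 𝒜 𝒟 n := by
    intro n
    haveI := hfinD n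
    exact (Submodule.fg_top _).mp (Module.finite_def.mp (hfinD n))
  choose Z hZ using hZ
  rw [Module.finite_def, Submodule.fg_def]
  refine ⟨⋃ n ∈ Finset.Ioc (-t₁) (t₀ : ℤ), (Z n : Set D), ?_, ?_⟩
  · exact Set.Finite.biUnion (Finset.finite_toSet _) (fun n _ => Finset.finite_toSet _)
  · rw [eq_top_iff]
    intro d _
    have hdsum : d = ∑ n ∈ (DirectSum.decompose 𝒟 d).support, gp 𝒜 𝒟 n d :=
      (sum_support_gproj 𝒟 (smul_mem_piece 𝒜 𝒟) d).symm
    rw [hdsum]
    apply Submodule.sum_mem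
    intro n _
    have hE' : gp 𝒜 𝒟 n d ∈ E := hpiece n _ (gproj_mem 𝒟 _ n d)
    have hEle : E ≤ Submodule.span R (⋃ n ∈ Finset.Ioc (-t₁) (t₀ : ℤ), (Z n : Set D)) := by
      apply Submodule.span_le.mpr
      rintro e ⟨m, hm, he⟩
      by_cases hm1 : m ≤ -t₁
      · rw [hbelow m hm1 e he]; exact Submodule.zero_mem _
      · have hmem : e ∈ Submodule.span k (Z m : Set D) := by rw [hZ m]; exact he
        have h2 : Submodule.span k (Z m : Set D) ≤
            (Submodule.span R (Z m : Set D)).restrictScalars k :=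
          Submodule.span_le_restrictScalars k R _
        have h3 : e ∈ Submodule.span R (Z m : Set D) := h2 hmem
        refine Submodule.span_mono ?_ h3
        intro z hz
        simp only [Set.mem_iUnion]
        exact ⟨m, Finset.mem_Ioc.mpr ⟨by omega, hm⟩, hz⟩
    exact hEle hE'

end ArtinDual

end Groth.Agent.H98
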