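import Groth.Agent.H98.GrPieces
import Groth.Prelude.Def_GrSeg
import Mathlib.LinearAlgebra.Dual.Lemmas
import Mathlib.LinearAlgebra.Basis.VectorSpace

set_option autoImplicit false
universe u

namespace Groth.Agent.H98

section Dual

variable {k : Type u} [Field k] {R : Type u} [CommRing R] [Algebra k R]
  (𝒜 : ℤ → Submodule k R) [GradedAlgebra 𝒜]
  {M : Type u} [AddCommGroup M] [Module R M] [Module k M] [IsScalarTower k R M]
  (ℳ : ℤ → AddSubgroup M) [DirectSum.Decomposition ℳ] [SetLike.GradedSMul 𝒜 ℳ]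
  {D : Type u} [AddCommGroup D] [Module R D] [Module k D] [IsScalarTower k R D]
  (𝒟 : ℤ → AddSubgroup D) [DirectSum.Decomposition 𝒟] [SetLike.GradedSMul 𝒜 𝒟]
  (β : D →ₗ[k] M →ₗ[k] k) (hD : GrSeg.IsGDual R ℳ 𝒟 β)

include hD in
/-- a homogeneous `d ∈ D_n` only sees the component of degree `-n` -/
theorem beta_eq_comp {n : ℤ} {d : D} (hd : d ∈ 𝒟 n) (x : M) :
    β d x = β d (gp 𝒜 ℳ (-n) x) := by
  induction x using DirectSum.Decomposition.inductionOn ℳ with
  | zero => simp
  | @homogeneous m x =>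
    by_cases hm : m = -n
    · subst hm
      rw [gproj_of_mem_same ℳ _ x.2]
    · rw [gproj_of_mem_ne ℳ _ x.2 hm, map_zero]
      exact hD.vanish n d hd m hm x x.2
  | add x y hx hy => rw [map_add, map_add, map_add, hx, hy]

include hD in
/-- `x ∈ M_{-n}` only sees the component of degree `n` of `d` -/
theorem beta_comp_eq {n : ℤ} {x : M} (hx : x ∈ ℳ (-n)) (d : D) :
    β d x = β (gp 𝒜 𝒟 n d) x := by
  induction d using DirectSum.Decomposition.inductionOn 𝒟 with
  | zero => simp
  | @homogeneous j d =>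
    by_cases hj : j = n
    · subst hj
      rw [gproj_of_mem_same 𝒟 _ d.2]
    · rw [gproj_of_mem_ne 𝒟 _ d.2 hj, map_zero, LinearMap.zero_apply]
      exact hD.vanish j d d.2 (-n) (by omega) x hx
  | add a b ha hb => simp only [map_add, LinearMap.add_apply, ha, hb]

include 𝒜 hD in
/-- nondegeneracy on the `D` side -/
theorem nondegD (d : D) (h : ∀ x, β d x = 0) : d = 0 := by
  classical
  rw [← sum_support_gproj 𝒟 (smul_mem_piece 𝒜 𝒟) d]
  apply Finset.sum_eq_zero
  intro n _
  apply hD.eq_zero n _ (gproj_mem 𝒟 _ n d)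
  intro x hx
  have := beta_comp_eq 𝒜 ℳ 𝒟 β hD hx d
  change β (gp 𝒜 𝒟 n d) x = 0
  rw [← this, h]

/-- functionals separate points over a field -/
theorem exists_functional_eq_one {V : Type*} [AddCommGroup V] [Module k V] (v : V) (hv : v ≠ 0) :
    ∃ φ : V →ₗ[k] k, φ v = 1 := by
  have hinj : Function.Injective (LinearMap.toSpanSingleton k V v) := by
    intro a b hab
    simp only [LinearMap.toSpanSingleton_apply] at hab
    exact smul_left_injective k hv hab
  obtain ⟨g, hg⟩ := LinearMap.exists_leftInverse_of_injective (LinearMap.toSpanSingleton k V v)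
    (LinearMap.ker_eq_bot.mpr hinj)
  refine ⟨g, ?_⟩
  have := congrArg (fun F => F (1 : k)) hg
  simpa using this

include 𝒜 hD in
/-- nondegeneracy on the `M` side -/
theorem nondegM (y : M) (h : ∀ d, β d y = 0) : y = 0 := by
  classical
  rw [← sum_support_gproj ℳ (smul_mem_piece 𝒜 ℳ) y]
  apply Finset.sum_eq_zero
  intro m _
  by_contra hne
  obtain ⟨φ, hφ⟩ := exists_functional_eq_one (k := k) _ hne
  obtain ⟨d, hd, hdφ⟩ := hD.exists_eq (-m) φ
  have h1 := beta_eq_comp 𝒜 ℳ 𝒟 β hD hd y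
  rw [h] at h1
  have hmem : gp 𝒜 ℳ (-(-m)) y ∈ ℳ (-(-m)) := gproj_mem ℳ _ _ y
  rw [hdφ _ hmem] at h1
  rw [neg_neg] at h1
  rw [hφ] at h1
  exact zero_ne_one h1

include hD in
/-- reflexivity in degree `n` when `M_n` is finite-dimensional -/
theorem exists_repr_of_finite (n : ℤ) [Module.Finite k (pieceSub 𝒜 ℳ n)] (Λ : D →ₗ[k] k) :
    ∃ y ∈ ℳ n, ∀ d ∈ 𝒟 (-n), β d y = Λ d := by
  set W := pieceSub 𝒜 ℳ n with hW
  set V := pieceSub 𝒜 𝒟 (-n) with hV
  -- the comparison map `V → W*`
  let e : V →ₗ[k] Module.Dual k W :=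
    { toFun := fun d => (β (d : D)) ∘ₗ W.subtype
      map_add' := by intro a b; ext w; simp
      map_smul' := by intro c a; ext w; simp }
  have he_inj : Function.Injective e := by
    rw [← LinearMap.ker_eq_bot, LinearMap.ker_eq_bot']
    intro d hd
    have hd0 : (d : D) = 0 := by
      apply hD.eq_zero (-n) _ d.2
      intro x hx
      rw [neg_neg] at hx
      have := congrArg (fun F => F (⟨x, hx⟩ : W)) hd
      simpa [e] using this
    exact Subtype.ext hd0
  have he_surj : Function.Surjective e := by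
    intro ψ
    let P : M →ₗ[k] W := LinearMap.codRestrict W (gp 𝒜 ℳ n) (fun x => gproj_mem ℳ _ n x)
    obtain ⟨d, hd, hdψ⟩ := hD.exists_eq (-n) (ψ ∘ₗ P)
    refine ⟨⟨d, hd⟩, ?_⟩
    ext w
    have hw : (w : M) ∈ ℳ (-(-n)) := by rw [neg_neg]; exact w.2
    have := hdψ _ hw
    simp only [e, LinearMap.coe_mk, AddHom.coe_mk, LinearMap.coe_comp, Submodule.coe_subtype,
      Function.comp_apply]
    rw [this]
    simp only [LinearMap.coe_comp, Function.comp_apply]
    congr 1
    apply Subtype.ext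
    simp only [P, LinearMap.codRestrict_apply]
    exact gproj_of_mem_same ℳ _ w.2
  let E : V ≃ₗ[k] Module.Dual k W := LinearEquiv.ofBijective e ⟨he_inj, he_surj⟩
  let Λ' : Module.Dual k (Module.Dual k W) := (Λ ∘ₗ V.subtype) ∘ₗ E.symm.toLinearMap
  obtain ⟨y, hy⟩ := (Module.evalEquiv k W).surjective Λ'
  refine ⟨y, y.2, ?_⟩
  intro d hd
  have h1 := congrArg (fun F => F (E ⟨d, hd⟩)) hy
  simp only [Module.evalEquiv_apply, Module.Dual.eval_apply, Λ', LinearMap.coe_comp,
    LinearEquiv.coe_coe, Function.comp_apply, LinearEquiv.symm_apply_apply,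
    Submodule.coe_subtype] at h1
  rw [← h1]
  rfl

end Dual

end Groth.Agent.H98
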