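import Groth.Agent.H98.GrDual

set_option autoImplicit false
universe u

namespace Groth.Agent.H98

section DualMap

variable {k : Type u} [Field k] {R : Type u} [CommRing R] [Algebra k R]
  (𝒜 : ℤ → Submodule k R) [GradedAlgebra 𝒜]
  {F : Type u} [AddCommGroup F] [Module R F] [Module k F] [IsScalarTower k R F]
  (ℱ : ℤ → AddSubgroup F) [DirectSum.Decomposition ℱ] [SetLike.GradedSMul 𝒜 ℱ]
  {M : Type u} [AddCommGroup M] [Module R M] [Module k M] [IsScalarTower k R M]
  (ℳ : ℤ → AddSubgroup M) [DirectSum.Decomposition ℳ] [SetLike.GradedSMul 𝒜 ℳ]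
  {DM : Type u} [AddCommGroup DM] [Module R DM] [Module k DM] [IsScalarTower k R DM]
  (𝒟M : ℤ → AddSubgroup DM) [DirectSum.Decomposition 𝒟M] [SetLike.GradedSMul 𝒜 𝒟M]
  (βM : DM →ₗ[k] M →ₗ[k] k) (hDM : GrSeg.IsGDual R ℳ 𝒟M βM)
  {DF : Type u} [AddCommGroup DF] [Module R DF] [Module k DF] [IsScalarTower k R DF]
  (𝒟F : ℤ → AddSubgroup DF) [DirectSum.Decomposition 𝒟F] [SetLike.GradedSMul 𝒜 𝒟F]
  (βF : DF →ₗ[k] F →ₗ[k] k) (hDF : GrSeg.IsGDual R ℱ 𝒟F βF)

include hDM hDF in
theorem existsUnique_dualMap (hfin : ∀ n, Module.Finite k (pieceSub 𝒜 ℳ n))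
    (g : DM →ₗ[R] DF) (hg : GrLC.IsGrHom 𝒟M 𝒟F g) :
    ∃! f : F →ₗ[R] M, GrLC.IsGrHom ℱ ℳ f ∧ GrSeg.IsGDualMap βM βF f g := by
  -- homogeneous step
  have stepA' : ∀ (n : ℤ) (x : F), x ∈ ℱ n → ∃ y ∈ ℳ n, ∀ d, βM d y = βF (g d) x := by
    intro n x hx
    haveI := hfin n
    let Λ : DM →ₗ[k] k := (βF.flip x) ∘ₗ (g.restrictScalars k)
    obtain ⟨y, hy, hyΛ⟩ := exists_repr_of_finite 𝒜 ℳ 𝒟M βM hDM n Λ
    refine ⟨y, hy, ?_⟩
    intro d
    induction d using DirectSum.Decomposition.inductionOn 𝒟M with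
    | zero => simp
    | @homogeneous j d =>
      by_cases hj : j = -n
      · subst hj
        rw [hyΛ _ d.2]
        rfl
      · rw [hDM.vanish j d d.2 n (by omega) y hy]
        exact (hDF.vanish j (g d) (hg j d d.2) n (by omega) x hx).symm
    | add a b ha hb => simp only [map_add, LinearMap.add_apply, ha, hb]
  have stepA : ∀ x : F, ∃ y : M, ∀ d, βM d y = βF (g d) x := by
    intro x
    induction x using DirectSum.Decomposition.inductionOn ℱ with
    | zero => exact ⟨0, by simp⟩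
    | @homogeneous n x =>
      obtain ⟨y, -, hy⟩ := stepA' n x x.2
      exact ⟨y, hy⟩
    | add a b ha hb =>
      obtain ⟨y1, h1⟩ := ha
      obtain ⟨y2, h2⟩ := hb
      exact ⟨y1 + y2, fun d => by simp only [map_add, h1, h2]⟩
  choose f₀ hf₀ using stepA
  have huniq : ∀ (x : F) (y : M), (∀ d, βM d y = βF (g d) x) → y = f₀ x := by
    intro x y hy
    have : y - f₀ x = 0 := by
      apply nondegM 𝒜 ℳ 𝒟M βM hDM
      intro d
      rw [map_sub, hy, hf₀, sub_self]
    exact sub_eq_zero.mp this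
  let f : F →ₗ[R] M :=
    { toFun := f₀
      map_add' := by
        intro a b
        symm
        apply huniq
        intro d
        simp only [map_add, hf₀]
      map_smul' := by
        intro r x
        symm
        apply huniq
        intro d
        simp only [RingHom.id_apply]
        rw [← hDM.map_smul, hf₀, map_smul, hDF.map_smul] }
  have hf_apply : ∀ x, f x = f₀ x := fun _ => rfl
  refine ⟨f, ⟨?_, ?_⟩, ?_⟩
  · intro n x hx
    obtain ⟨y, hy, hyd⟩ := stepA' n x hx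
    rw [hf_apply, ← huniq x y hyd]
    exact hy
  · intro d x
    rw [hf_apply, hf₀]
  · rintro f' ⟨-, hf'⟩
    ext x
    rw [hf_apply]
    apply huniq
    intro d
    exact (hf' d x).symm

end DualMap

end Groth.Agent.H98
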