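import Groth.Agent.H98.GrSocle

set_option autoImplicit false
universe u

namespace Groth.Agent.H98

section Embed

variable {k : Type u} [Field k] {R : Type u} [CommRing R] [Algebra k R]
  (𝒜 : ℤ → Submodule k R) [GradedAlgebra 𝒜]
  {M : Type u} [AddCommGroup M] [Module R M] [Module k M] [IsScalarTower k R M]
  (ℳ : ℤ → AddSubgroup M) [DirectSum.Decomposition ℳ] [SetLike.GradedSMul 𝒜 ℳ]
  (hpos : ∀ n : ℤ, n < 0 → 𝒜 n = ⊥) (h0 : 𝒜 0 = Submodule.span k {(1 : R)})
  {D : Type u} [AddCommGroup D] [Module R D] [Module k D] [IsScalarTower k R D]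
  (𝒟 : ℤ → AddSubgroup D) [DirectSum.Decomposition 𝒟] [SetLike.GradedSMul 𝒜 𝒟]
  (β : D →ₗ[k] R →ₗ[k] k) (hD : GrSeg.IsGDual R 𝒜 𝒟 β)

include hpos h0 hD in
/-- an Artinian graded module embeds into a finite direct sum of shifted copies of `R^*` -/
theorem exists_embedding_of_isArtinian [IsArtinian R M] :
    ∃ (t : ℕ) (sh : Fin t → ℤ) (f : M →ₗ[R] (Fin t → D)), Function.Injective f ∧
      ∀ (i : Fin t) (g : ℤ) (x : M), x ∈ ℳ g → f x i ∈ 𝒟 (g + sh i) := by
  classical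
  obtain ⟨t₁, ht₁⟩ := exists_bound_above 𝒜 ℳ hpos
  haveI : Module.Finite k (socle (M := M) 𝒜) := finite_socle 𝒜 hpos h0
  set S := socle (M := M) 𝒜 with hS
  obtain ⟨T, hT⟩ := exists_finset_support 𝒜 ℳ S
  let b := Module.finBasis k S
  obtain ⟨ρ, hρ⟩ := LinearMap.exists_leftInverse_of_injective S.subtype (Submodule.ker_subtype S)
  have hρ' : ∀ y : S, ρ (y : M) = y := fun y => by
    have := congrArg (fun F => F y) hρ
    simpa using this
  let I := Fin (Module.finrank k S) × T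
  let Λ : I → (M →ₗ[k] k) := fun p => (b.coord p.1) ∘ₗ ρ ∘ₗ gp 𝒜 ℳ (p.2 : ℤ)
  have hΛ : ∀ (p : I) (n : ℤ), n ≠ (p.2 : ℤ) → ∀ x ∈ ℳ n, Λ p x = 0 := by
    intro p n hn x hx
    simp only [Λ, LinearMap.coe_comp, Function.comp_apply]
    rw [gproj_of_mem_ne ℳ _ hx hn, map_zero, map_zero]
  have hex : ∀ p : I, ∃ h : M →ₗ[R] D, (∀ (g : ℤ) (x : M), x ∈ ℳ g → h x ∈ 𝒟 (g - (p.2 : ℤ))) ∧
      ∀ (x : M) (r : R), β (h x) r = Λ p (r • x) :=
    fun p => exists_adj_hom 𝒜 𝒟 β hD ℳ (Λ p) (p.2 : ℤ) (hΛ p)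
  choose h hgr hβ using hex
  let e : I ≃ Fin (Fintype.card I) := Fintype.equivFin I
  refine ⟨Fintype.card I, fun j => -((e.symm j).2 : ℤ), LinearMap.pi (fun j => h (e.symm j)), ?_, ?_⟩
  · -- injectivity
    rw [← LinearMap.ker_eq_bot, LinearMap.ker_eq_bot']
    intro x hx
    have hx' : ∀ p : I, h p x = 0 := by
      intro p
      have := congrFun hx (e p)
      simpa using this
    by_contra hne
    -- a nonzero homogeneous component
    have hcomp : ∃ g, gp 𝒜 ℳ g x ≠ 0 := by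
      by_contra hcon
      push Not at hcon
      exact hne (eq_zero_of_gp_eq_zero 𝒜 ℳ x hcon)
    obtain ⟨g, hg⟩ := hcomp
    have hxg : ∀ p : I, h p (gp 𝒜 ℳ g x) = 0 := by
      intro p
      have hsh := decompose_map_shift ℳ 𝒟 (h p).toAddMonoidHom (-(p.2 : ℤ))
        (fun i w hw => by
          have := hgr p i w hw
          rwa [sub_eq_add_neg] at this) x g
      have : (h p).toAddMonoidHom x = 0 := hx' p
      rw [this] at hsh
      have h2 : (h p) (gp 𝒜 ℳ g x) = (h p).toAddMonoidHom ((DirectSum.decompose ℳ x g : ℳ g) : M) := rfl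
      rw [h2, ← hsh]
      simp
    obtain ⟨r, n', h1, h2, h3⟩ := exists_socle_multiple_of_bddAbove 𝒜 ℳ t₁ ht₁
      (t₁ - g).toNat g (gp 𝒜 ℳ g x) (gproj_mem ℳ _ g x) hg (Int.self_le_toNat _)
    set y := r • gp 𝒜 ℳ g x with hy
    have hyT : n' ∈ T := by
      by_contra hn'
      apply h1
      have := hT y h3 n' hn'
      rwa [gproj_of_mem_same ℳ _ h2] at this
    have hy0 : (⟨y, h3⟩ : S) = 0 := by
      apply b.ext_elem
      intro i
      have hp := hβ (i, ⟨n', hyT⟩) y 1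
      have hzero : h (i, ⟨n', hyT⟩) y = 0 := by
        rw [hy, map_smul, hxg, smul_zero]
      rw [hzero, map_zero, LinearMap.zero_apply, one_smul] at hp
      simp only [Λ, LinearMap.coe_comp, Function.comp_apply] at hp
      rw [gproj_of_mem_same ℳ _ h2, hρ' ⟨y, h3⟩] at hp
      rw [map_zero, Finsupp.zero_apply]
      exact hp.symm
    apply h1
    exact congrArg Subtype.val hy0
  · intro j g x hx
    have := hgr (e.symm j) g x hx
    rw [sub_eq_add_neg] at this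
    exact this

end Embed

end Groth.Agent.H98

namespace Groth.Agent.H98

section SelfArtin

variable {k : Type u} [Field k] {R : Type u} [CommRing R] [Algebra k R]
  (𝒜 : ℤ → Submodule k R) [GradedAlgebra 𝒜]
  (hpos : ∀ n : ℤ, n < 0 → 𝒜 n = ⊥) (h0 : 𝒜 0 = Submodule.span k {(1 : R)})
  {D : Type u} [AddCommGroup D] [Module R D] [Module k D] [IsScalarTower k R D]
  (𝒟 : ℤ → AddSubgroup D) [DirectSum.Decomposition 𝒟] [SetLike.GradedSMul 𝒜 𝒟]
  (β : D →ₗ[k] R →ₗ[k] k) (hD : GrSeg.IsGDual R 𝒜 𝒟 β)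

include hpos h0 hD in
/-- `R^*` is an Artinian `R`-module -/
theorem isArtinian_gdual_self [IsNoetherianRing R] : IsArtinian R D := by
  have hfin := fun n => finite_pieceSub 𝒜 (selfGr 𝒜) hpos h0 n
  apply isArtinian_gdual 𝒜 (selfGr 𝒜) 𝒟 β (isGDual_selfGr 𝒜 𝒟 β hD) hpos hfin 0
  intro n hn x hx
  have hx' : x ∈ 𝒜 n := hx
  rw [hpos n hn] at hx'
  exact (Submodule.mem_bot k).mp hx'

end SelfArtin

end Groth.Agent.H98
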