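import Groth.Agent.H98.GrDualMap
import Mathlib.RingTheory.GradedAlgebra.Homogeneous.Submodule

set_option autoImplicit false
universe u

namespace Groth.Agent.H98

theorem finset_int_exists_lb (s : Finset ℤ) : ∃ b : ℤ, ∀ i ∈ s, b ≤ i := by
  classical
  induction s using Finset.induction_on with
  | empty => exact ⟨0, by simp⟩
  | insert a s _ ih =>
    obtain ⟨b, hb⟩ := ih
    refine ⟨min a b, ?_⟩
    intro i hi
    rw [Finset.mem_insert] at hi
    rcases hi with rfl | hi
    · exact min_le_left _ _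
    · exact le_trans (min_le_right _ _) (hb i hi)

/-- a functional vanishing on a subspace with value one at a vector outside -/
theorem exists_functional_sep {k : Type*} [Field k] {V : Type*} [AddCommGroup V] [Module k V]
    (W : Submodule k V) (v : V) (hv : v ∉ W) :
    ∃ φ : V →ₗ[k] k, φ v = 1 ∧ ∀ w ∈ W, φ w = 0 := by
  have hne : W.mkQ v ≠ 0 := by
    rw [Submodule.mkQ_apply, Ne, Submodule.Quotient.mk_eq_zero]
    exact hv
  obtain ⟨ψ, hψ⟩ := exists_functional_eq_one (k := k) _ hne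
  refine ⟨ψ ∘ₗ W.mkQ, hψ, ?_⟩
  intro w hw
  rw [LinearMap.comp_apply, Submodule.mkQ_apply, (Submodule.Quotient.mk_eq_zero W).mpr hw, map_zero]

section BoundedBelow

variable {k : Type u} [Field k] {R : Type u} [CommRing R] [Algebra k R]
  (𝒜 : ℤ → Submodule k R) [GradedAlgebra 𝒜]
  {F : Type u} [AddCommGroup F] [Module R F] [Module k F] [IsScalarTower k R F]
  (ℱ : ℤ → AddSubgroup F) [DirectSum.Decomposition ℱ] [SetLike.GradedSMul 𝒜 ℱ]
  (hpos : ∀ n : ℤ, n < 0 → 𝒜 n = ⊥)

theorem geSub_anti {n n' : ℤ} (h : n' ≤ n) : geSub 𝒜 ℱ hpos n ≤ geSub 𝒜 ℱ hpos n' := by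
  intro x hx m hm
  exact hx m (lt_of_lt_of_le hm h)

include hpos in
theorem exists_geSub_of_finset (Z : Finset F) : ∃ n₀ : ℤ, ∀ z ∈ Z, z ∈ geSub 𝒜 ℱ hpos n₀ := by
  classical
  have hz : ∀ z : F, ∃ b : ℤ, z ∈ geSub 𝒜 ℱ hpos b := by
    intro z
    obtain ⟨b, hb⟩ := finset_int_exists_lb (DirectSum.decompose ℱ z).support
    refine ⟨b, ?_⟩
    intro m hm
    have : m ∉ (DirectSum.decompose ℱ z).support := fun h => absurd (hb m h) (by omega)
    rw [DFinsupp.notMem_support_iff] at this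
    rw [this]; rfl
  induction Z using Finset.induction_on with
  | empty => exact ⟨0, by simp⟩
  | insert a s _ ih =>
    obtain ⟨b, hb⟩ := ih
    obtain ⟨c, hc⟩ := hz a
    refine ⟨min b c, ?_⟩
    intro z hzs
    rw [Finset.mem_insert] at hzs
    rcases hzs with rfl | hzs
    · exact geSub_anti 𝒜 ℱ hpos (min_le_right _ _) hc
    · exact geSub_anti 𝒜 ℱ hpos (min_le_left _ _) (hb z hzs)

include hpos in
/-- a finitely generated graded module over a non-negatively graded ring is bounded below -/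
theorem exists_bound_below [Module.Finite R F] :
    ∃ n₀ : ℤ, ∀ n < n₀, ∀ x ∈ ℱ n, x = 0 := by
  obtain ⟨Z, hZ⟩ := (Module.finite_def.mp (inferInstance : Module.Finite R F))
  obtain ⟨n₀, hn₀⟩ := exists_geSub_of_finset 𝒜 ℱ hpos Z
  refine ⟨n₀, ?_⟩
  intro n hn x hx
  have htop : (⊤ : Submodule R F) ≤ geSub 𝒜 ℱ hpos n₀ := by
    rw [← hZ]
    exact Submodule.span_le.mpr hn₀
  have h1 := htop (Submodule.mem_top (x := x)) n hn
  rwa [DirectSum.decompose_of_mem_same ℱ hx] at h1

end BoundedBelow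


section Ess

variable {k : Type u} [Field k] {R : Type u} [CommRing R] [Algebra k R]
  (𝒜 : ℤ → Submodule k R) [GradedAlgebra 𝒜]
  {F : Type u} [AddCommGroup F] [Module R F] [Module k F] [IsScalarTower k R F]
  (ℱ : ℤ → AddSubgroup F) [DirectSum.Decomposition ℱ] [SetLike.GradedSMul 𝒜 ℱ]
  {M : Type u} [AddCommGroup M] [Module R M] [Module k M] [IsScalarTower k R M]
  (ℳ : ℤ → AddSubgroup M) [DirectSum.Decomposition ℳ] [SetLike.GradedSMul 𝒜 ℳ]
  {DM : Type u} [AddCommGroup DM] [Module R DM] [Module k DM] [IsScalarTower k R DM]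
  (𝒟M : ℤ → AddSubgroup DM) [DirectSum.Decomposition 𝒟M] [SetLike.GradedSMul 𝒜 𝒟M]
  (βM : DM →ₗ[k] M →ₗ[k] k) (hDM : GrSeg.IsGDual R ℳ 𝒟M βM)
  {DF : Type u} [AddCommGroup DF] [Module R DF] [Module k DF] [IsScalarTower k R DF]
  (𝒟F : ℤ → AddSubgroup DF) [DirectSum.Decomposition 𝒟F] [SetLike.GradedSMul 𝒜 𝒟F]
  (βF : DF →ₗ[k] F →ₗ[k] k) (hDF : GrSeg.IsGDual R ℱ 𝒟F βF)
  (f : F →ₗ[R] M) (g : DM →ₗ[R] DF) (hg : GrSeg.IsGDualMap βM βF f g)

include 𝒜 hDM hg in
/-- the dual of a surjection is injective -/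
theorem dualMap_injective (hf : Function.Surjective f) : Function.Injective g := by
  rw [← LinearMap.ker_eq_bot, LinearMap.ker_eq_bot']
  intro d hd
  apply nondegD 𝒜 ℳ 𝒟M βM hDM
  intro y
  obtain ⟨x, rfl⟩ := hf y
  rw [← hg d x, hd, map_zero, LinearMap.zero_apply]

include 𝒜 hDM hDF hg in
/-- the dual of a graded map is graded -/
theorem dualMap_isGrHom (hfgr : GrLC.IsGrHom ℱ ℳ f) : GrLC.IsGrHom 𝒟M 𝒟F g := by
  classical
  intro n d hd
  have hzero : ∀ j, j ≠ n → gp 𝒜 𝒟F j (g d) = 0 := by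
    intro j hj
    apply hDF.eq_zero j _ (gproj_mem 𝒟F _ j (g d))
    intro x hx
    rw [← beta_comp_eq 𝒜 ℱ 𝒟F βF hDF hx (g d), hg d x]
    exact hDM.vanish n d hd (-j) (by omega) (f x) (hfgr (-j) x hx)
  rw [← sum_support_gproj 𝒟F (smul_mem_piece 𝒜 𝒟F) (g d)]
  apply AddSubgroup.sum_mem
  intro j _
  by_cases hj : j = n
  · subst hj; exact gproj_mem 𝒟F _ _ _
  · have := hzero j hj
    change gp 𝒜 𝒟F j (g d) ∈ 𝒟F n
    rw [this]; exact AddSubgroup.zero_mem _

include 𝒜 hDM hDF hg in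
/-- homogeneous elements of `F^*` vanishing on `ker f` are in the image of the dual map -/
theorem mem_range_dualMap (hf : Function.Surjective f) (hfgr : GrLC.IsGrHom ℱ ℳ f)
    (j : ℤ) (e : DF) (he : e ∈ 𝒟F j) (hker : ∀ x, f x = 0 → βF e x = 0) :
    ∃ d, g d = e := by
  let fk : F →ₗ[k] M := f.restrictScalars k
  have hfk : Function.Surjective fk := hf
  have hle : LinearMap.ker fk ≤ LinearMap.ker (βF e) := by
    intro x hx
    rw [LinearMap.mem_ker] at hx ⊢
    exact hker x hx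
  let ψ : M →ₗ[k] k :=
    (Submodule.liftQ _ (βF e) hle) ∘ₗ (fk.quotKerEquivOfSurjective hfk).symm.toLinearMap
  have hψ : ∀ x, ψ (f x) = βF e x := by
    intro x
    have h1 : (fk.quotKerEquivOfSurjective hfk).symm (f x) = Submodule.Quotient.mk x := by
      rw [LinearEquiv.symm_apply_eq]
      rfl
    simp only [ψ, LinearMap.coe_comp, LinearEquiv.coe_coe, Function.comp_apply]
    rw [h1]
    rfl
  obtain ⟨d, hd, hdψ⟩ := hDM.exists_eq j ψ
  refine ⟨d, ?_⟩
  have hgd : g d ∈ 𝒟F j := dualMap_isGrHom 𝒜 ℱ ℳ 𝒟M βM hDM 𝒟F βF hDF f g hg hfgr j d hd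
  have : g d - e = 0 := by
    apply nondegD 𝒜 ℱ 𝒟F βF hDF
    intro x
    induction x using DirectSum.Decomposition.inductionOn ℱ with
    | zero => simp
    | @homogeneous m x =>
      rw [map_sub, LinearMap.sub_apply]
      by_cases hm : m = -j
      · subst hm
        rw [hg d x, hdψ _ (hfgr _ x x.2), hψ, sub_self]
      · rw [hDF.vanish j _ hgd m hm x x.2, hDF.vanish j e he m hm x x.2, sub_self]
    | add a b ha hb => rw [map_add, ha, hb, add_zero]
  exact sub_eq_zero.mp this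


variable (hpos : ∀ n : ℤ, n < 0 → 𝒜 n = ⊥) (h0 : 𝒜 0 = Submodule.span k {(1 : R)})
  (m : Ideal R) (hm : m = Ideal.span (⋃ n ∈ Set.Ioi (0 : ℤ), (𝒜 n : Set R)))

include hpos hDF in
/-- a nonzero homogeneous element of `F^*` (with `F` bounded below) has a nonzero multiple killed by
all elements of positive degree -/
theorem exists_socle_multiple (n₀ : ℤ) (hn₀ : ∀ n < n₀, ∀ x ∈ ℱ n, x = 0) :
    ∀ (t : ℕ) (n : ℤ) (e : DF), e ∈ 𝒟F n → e ≠ 0 → -n₀ - n ≤ t →
      ∃ (r : R) (n' : ℤ), r • e ≠ 0 ∧ r • e ∈ 𝒟F n' ∧ ∀ i : ℤ, 0 < i → ∀ s ∈ 𝒜 i, s • (r • e) = 0 := by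
  have hbd : ∀ j : ℤ, -n₀ < j → ∀ e ∈ 𝒟F j, e = 0 := by
    intro j hj e he
    apply hDF.eq_zero j e he
    intro x hx
    rw [hn₀ (-j) (by omega) x hx, map_zero]
  intro t
  induction t with
  | zero =>
    intro n e he hne hle
    refine ⟨1, n, by rwa [one_smul], by rwa [one_smul], ?_⟩
    intro i hi s hs
    rw [one_smul]
    apply hbd (i + n) (by push_cast at hle; omega)
    exact SetLike.GradedSMul.smul_mem (A := 𝒜) (B := 𝒟F) hs he
  | succ t ih =>
    intro n e he hne hle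
    by_cases hall : ∀ i : ℤ, 0 < i → ∀ s ∈ 𝒜 i, s • e = 0
    · refine ⟨1, n, by rwa [one_smul], by rwa [one_smul], ?_⟩
      intro i hi s hs
      rw [one_smul]; exact hall i hi s hs
    · push_neg at hall
      obtain ⟨i, hi, s, hs, hse⟩ := hall
      have hmem : s • e ∈ 𝒟F (i + n) := SetLike.GradedSMul.smul_mem (A := 𝒜) (B := 𝒟F) hs he
      obtain ⟨r', n', h1, h2, h3⟩ := ih (i + n) (s • e) hmem hse (by push_cast at hle ⊢; omega)
      refine ⟨r' * s, n', ?_, ?_, ?_⟩
      · rwa [mul_smul]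
      · rwa [mul_smul]
      · intro i' hi' s' hs'
        rw [mul_smul]; exact h3 i' hi' s' hs'

include hm in
/-- an element killed by all homogeneous elements of positive degree is killed by `m` -/
theorem smul_eq_zero_of_mem_irrelevant (e : DF)
    (he : ∀ i : ℤ, 0 < i → ∀ s ∈ 𝒜 i, s • e = 0) (a : R) (ha : a ∈ m) : a • e = 0 := by
  rw [hm] at ha
  induction ha using Submodule.span_induction with
  | mem s hs =>
    simp only [Set.mem_iUnion, Set.mem_Ioi, SetLike.mem_coe, exists_prop] at hs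
    obtain ⟨i, hi, hsi⟩ := hs
    exact he i hi s hsi
  | zero => exact zero_smul _ _
  | add a b _ _ ha hb => rw [add_smul, ha, hb, add_zero]
  | smul c a _ ha => rw [smul_eq_mul, mul_smul, ha, smul_zero]

include hDF hm in
/-- such an element pairs to zero with `m F` -/
theorem beta_eq_zero_of_mem_irrelevant_smul (e : DF)
    (he : ∀ i : ℤ, 0 < i → ∀ s ∈ 𝒜 i, s • e = 0) (x : F)
    (hx : x ∈ m • (⊤ : Submodule R F)) : βF e x = 0 := by
  refine Submodule.smul_induction_on hx ?_ ?_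
  · intro a ha y _
    rw [← hDF.map_smul, smul_eq_zero_of_mem_irrelevant 𝒜 m hm e he a ha, map_zero,
      LinearMap.zero_apply]
  · intro x y hx hy
    rw [map_add, hx, hy, add_zero]

include hm in
/-- `m F` is a homogeneous submodule -/
theorem gp_mem_irrelevant_smul (x : F) (hx : x ∈ m • (⊤ : Submodule R F)) (n : ℤ) :
    gp 𝒜 ℱ n x ∈ m • (⊤ : Submodule R F) := by
  refine Submodule.smul_induction_on hx ?_ ?_
  · intro a ha y _
    rw [hm] at ha
    have : ∀ y : F, gp 𝒜 ℱ n (a • y) ∈ m • (⊤ : Submodule R F) := by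
      induction ha using Submodule.span_induction with
      | mem s hs =>
        have hsm : s ∈ m := by rw [hm]; exact Ideal.subset_span hs
        simp only [Set.mem_iUnion, Set.mem_Ioi, SetLike.mem_coe, exists_prop] at hs
        obtain ⟨i, hi, hsi⟩ := hs
        intro y
        have hsh := decompose_map_shift ℱ ℱ (DistribSMul.toAddMonoidHom F s) i
          (fun j w hw => by
            have := SetLike.GradedSMul.smul_mem (A := 𝒜) (B := ℱ) hsi hw
            rw [vadd_eq_add, add_comm] at this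
            exact this) y (n - i)
        rw [sub_add_cancel] at hsh
        have e : (DistribSMul.toAddMonoidHom F s) y = s • y := rfl
        rw [e] at hsh
        rw [gproj_apply, hsh]
        exact Submodule.smul_mem_smul hsm Submodule.mem_top
      | zero => intro y; rw [zero_smul, map_zero]; exact Submodule.zero_mem _
      | add a b _ _ ha hb => intro y; rw [add_smul, map_add]; exact Submodule.add_mem _ (ha y) (hb y)
      | smul c a _ ha =>
        intro y
        rw [smul_eq_mul, mul_comm, mul_smul]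
        exact ha (c • y)
    exact this y
  · intro x y hx hy
    rw [map_add]; exact Submodule.add_mem _ hx hy

end Ess

end Groth.Agent.H98
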