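import Groth.Agent.H98.GrEss

set_option autoImplicit false
universe u

namespace Groth.Agent.H98

section Ess

variable {k : Type u} [Field k] {R : Type u} [CommRing R] [Algebra k R]
  (𝒜 : ℤ → Submodule k R) [GradedAlgebra 𝒜]
  {F : Type u} [AddCommGroup F] [Module R F] [Module k F] [IsScalarTower k R F]
  (ℱ : ℤ → AddSubgroup F) [DirectSum.Decomposition ℱ] [SetLike.GradedSMul 𝒜 ℱ]
  {M : Type u} [AddCommGroup M] [Module R M] [Module k M] [IsScalarTower k R M]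
  (ℳ : ℤ → AddSubgroup M) [DirectSum.Decomposition ℳ] [SetLike.GradedSMul 𝒜 ℳ]
  {DM : Type u} [AddCommGroup DM] [Module R DM] [Module k DM] [IsScalarTower k R DM]
  (𝒟M : ℤ → AddSubgroup DM) [DirectSum.Decomposition 𝒟M] [SetLike.GradedSMul 𝒜 𝒟M]
  (βM : DM →ₗ[k] M →ₗ[k] k) (hDM : GrSeg.IsGDual R ℳ 𝒟M βM)
  {DF : Type u} [AddCommGroup DF] [Module R DF] [Module k DF] [IsScalarTower k R DF]
  (𝒟F : ℤ → AddSubgroup DF) [DirectSum.Decomposition 𝒟F] [SetLike.GradedSMul 𝒜 𝒟F]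
  (βF : DF →ₗ[k] F →ₗ[k] k) (hDF : GrSeg.IsGDual R ℱ 𝒟F βF)
  (f : F →ₗ[R] M) (g : DM →ₗ[R] DF) (hg : GrSeg.IsGDualMap βM βF f g)
  (hpos : ∀ n : ℤ, n < 0 → 𝒜 n = ⊥) (h0 : 𝒜 0 = Submodule.span k {(1 : R)})
  (m : Ideal R) (hm : m = Ideal.span (⋃ n ∈ Set.Ioi (0 : ℤ), (𝒜 n : Set R)))

include hDM hDF hg hpos hm in
theorem isStarEss_of_ker_le [Module.Finite R F] (hf : Function.Surjective f)
    (hfgr : GrLC.IsGrHom ℱ ℳ f) (hker : LinearMap.ker f ≤ m • (⊤ : Submodule R F)) :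
    GrLC.IsStarEss 𝒟M 𝒟F g := by
  classical
  refine ⟨dualMap_injective 𝒜 ℳ 𝒟M βM hDM βF f g hg hf,
    dualMap_isGrHom 𝒜 ℱ ℳ 𝒟M βM hDM 𝒟F βF hDF f g hg hfgr, ?_⟩
  intro P hP hPne
  obtain ⟨n₀, hn₀⟩ := exists_bound_below 𝒜 ℱ hpos
  -- a nonzero homogeneous element of P
  obtain ⟨p, hpP, hp0⟩ := (Submodule.ne_bot_iff P).mp hPne
  have hcomp : ∃ n, gp 𝒜 𝒟F n p ≠ 0 := by
    by_contra hcon
    push_neg at hcon
    apply hp0
    rw [← sum_support_gproj 𝒟F (smul_mem_piece 𝒜 𝒟F) p]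
    exact Finset.sum_eq_zero (fun n _ => hcon n)
  obtain ⟨n, hn⟩ := hcomp
  have hPn : gp 𝒜 𝒟F n p ∈ P := hP n hpP
  obtain ⟨r, n', h1, h2, h3⟩ := exists_socle_multiple 𝒜 ℱ 𝒟F βF hDF hpos n₀ hn₀
    (-n₀ - n).toNat n (gp 𝒜 𝒟F n p) (gproj_mem 𝒟F _ n p) hn (Int.self_le_toNat _)
  set e' := r • gp 𝒜 𝒟F n p with he'
  have he'P : e' ∈ P := P.smul_mem r hPn
  have hvan : ∀ x, f x = 0 → βF e' x = 0 := by
    intro x hx
    apply beta_eq_zero_of_mem_irrelevant_smul 𝒜 ℱ 𝒟F βF hDF m hm e' h3 x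
    exact hker (LinearMap.mem_ker.mpr hx)
  obtain ⟨d, hd⟩ := mem_range_dualMap 𝒜 ℱ ℳ 𝒟M βM hDM 𝒟F βF hDF f g hg hf hfgr n' e' h2 hvan
  intro hbot
  have : e' ∈ P ⊓ LinearMap.range g := ⟨he'P, ⟨d, hd⟩⟩
  rw [hbot, Submodule.mem_bot] at this
  exact h1 this


include hDF hg hpos h0 hm in
theorem ker_le_of_isStarEss (hfgr : GrLC.IsGrHom ℱ ℳ f) (hess : GrLC.IsStarEss 𝒟M 𝒟F g) :
    LinearMap.ker f ≤ m • (⊤ : Submodule R F) := by
  classical
  intro x hx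
  rw [LinearMap.mem_ker] at hx
  rw [← sum_support_gproj ℱ (smul_mem_piece 𝒜 ℱ) x]
  apply Submodule.sum_mem
  intro n _
  change gp 𝒜 ℱ n x ∈ _
  set xn := gp 𝒜 ℱ n x with hxn
  have hxn_mem : xn ∈ ℱ n := gproj_mem ℱ _ n x
  -- `x_n ∈ ker f`
  have hfxn : f xn = 0 := by
    have hsh := decompose_map_shift ℱ ℳ f.toAddMonoidHom 0
      (fun i w hw => by rw [add_zero]; exact hfgr i w hw) x n
    rw [add_zero] at hsh
    have e : f.toAddMonoidHom x = f x := rfl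
    rw [e, hx, DirectSum.decompose_zero] at hsh
    have : f xn = f.toAddMonoidHom ((DirectSum.decompose ℱ x n : ℱ n) : F) := rfl
    rw [this, ← hsh]
    rfl
  by_contra hnot
  set N : Submodule R F := m • (⊤ : Submodule R F) with hN
  obtain ⟨φ, hφ1, hφ0⟩ := exists_functional_sep (N.restrictScalars k) xn hnot
  obtain ⟨e, he, heφ⟩ := hDF.exists_eq (-n) (φ ∘ₗ gp 𝒜 ℱ n)
  -- `e` pairs to one with `x_n`
  have h1 : βF e xn = 1 := by
    rw [heφ xn (by rw [neg_neg]; exact hxn_mem), LinearMap.comp_apply,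
      gproj_of_mem_same ℱ _ hxn_mem, hφ1]
  -- `e` vanishes on `N`
  have hN0 : ∀ y ∈ N, βF e y = 0 := by
    intro y hy
    rw [beta_eq_comp 𝒜 ℱ 𝒟F βF hDF he y]
    have hmem : gp 𝒜 ℱ (-(-n)) y ∈ ℱ (-(-n)) := gproj_mem ℱ _ _ y
    rw [heφ _ hmem, LinearMap.comp_apply]
    have h2 : gp 𝒜 ℱ n (gp 𝒜 ℱ (-(-n)) y) ∈ N := by
      rw [neg_neg]
      apply gp_mem_irrelevant_smul 𝒜 ℱ m hm _ _ n
      exact gp_mem_irrelevant_smul 𝒜 ℱ m hm y hy n
    exact hφ0 _ h2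
  -- so `e` is killed by positive degrees
  have hkill : ∀ i : ℤ, 0 < i → ∀ s ∈ 𝒜 i, s • e = 0 := by
    intro i hi s hs
    apply nondegD 𝒜 ℱ 𝒟F βF hDF
    intro y
    rw [hDF.map_smul]
    apply hN0
    apply Submodule.smul_mem_smul _ Submodule.mem_top
    rw [hm]
    apply Ideal.subset_span
    simp only [Set.mem_iUnion, Set.mem_Ioi, SetLike.mem_coe, exists_prop]
    exact ⟨i, hi, hs⟩
  -- `R e = k e`
  have hRe : ∀ r : R, ∃ c : k, r • e = c • e := by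
    intro r
    induction r using DirectSum.Decomposition.inductionOn 𝒜 with
    | zero => exact ⟨0, by simp⟩
    | @homogeneous i r =>
      rcases lt_trichotomy i 0 with hi | hi | hi
      · have h : (r : R) ∈ 𝒜 i := r.2
        have h' : (r : R) ∈ (⊥ : Submodule k R) := (hpos i hi) ▸ h
        rw [(Submodule.mem_bot k).mp h', zero_smul]
        exact ⟨0, by simp⟩
      · have h : (r : R) ∈ 𝒜 i := r.2
        have h' : (r : R) ∈ Submodule.span k {(1 : R)} := by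
          have h2 : (r : R) ∈ 𝒜 0 := hi ▸ h
          rw [h0] at h2
          exact h2
        obtain ⟨c, hc⟩ := Submodule.mem_span_singleton.mp h'
        exact ⟨c, by rw [← hc, smul_assoc, one_smul]⟩
      · exact ⟨0, by rw [hkill i hi r r.2, zero_smul]⟩
    | add a b ha hb =>
      obtain ⟨c1, h1⟩ := ha
      obtain ⟨c2, h2⟩ := hb
      exact ⟨c1 + c2, by rw [add_smul, add_smul, h1, h2]⟩
  have he0 : e ≠ 0 := by
    intro h
    rw [h, map_zero, LinearMap.zero_apply] at h1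
    exact zero_ne_one h1
  -- the submodule generated by `e`
  have hP : (Submodule.span R {e}).IsHomogeneous 𝒟F := by
    intro j p hp
    obtain ⟨r, rfl⟩ := Submodule.mem_span_singleton.mp hp
    obtain ⟨c, hc⟩ := hRe r
    rw [hc]
    have hce : c • e ∈ 𝒟F (-n) := smul_mem_piece 𝒜 𝒟F c (-n) e he
    by_cases hj : -n = j
    · subst hj
      rw [DirectSum.decompose_of_mem_same 𝒟F hce, ← hc]
      exact Submodule.smul_mem _ r (Submodule.subset_span rfl)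
    · rw [DirectSum.decompose_of_mem_ne 𝒟F hce hj]
      exact Submodule.zero_mem _
  have hPne : Submodule.span R {e} ≠ ⊥ := by
    intro h
    have : e ∈ Submodule.span R {e} := Submodule.subset_span rfl
    rw [h, Submodule.mem_bot] at this
    exact he0 this
  have hmeet := hess.essential _ hP hPne
  obtain ⟨p, ⟨hp1, hp2⟩, hp0⟩ := (Submodule.ne_bot_iff _).mp hmeet
  obtain ⟨r, rfl⟩ := Submodule.mem_span_singleton.mp hp1
  obtain ⟨c, hc⟩ := hRe r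
  obtain ⟨d, hd⟩ := hp2
  have hc0 : c ≠ 0 := by
    intro h
    rw [h, zero_smul] at hc
    exact hp0 hc
  -- pair with `x_n`
  have h3 : βF (r • e) xn = 0 := by
    rw [← hd, hg d xn, hfxn, map_zero]
  rw [hc, map_smul, LinearMap.smul_apply, h1, smul_eq_mul, mul_one] at h3
  exact hc0 h3

end Ess

end Groth.Agent.H98
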