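import Groth.Agent.H98.GrSelf

set_option autoImplicit false
universe u

namespace Groth.Agent.H98

section Flip

variable {k : Type u} [Field k] {R : Type u} [CommRing R] [Algebra k R]
  (𝒜 : ℤ → Submodule k R) [GradedAlgebra 𝒜]
  {M : Type u} [AddCommGroup M] [Module R M] [Module k M] [IsScalarTower k R M]
  (ℳ : ℤ → AddSubgroup M) [DirectSum.Decomposition ℳ] [SetLike.GradedSMul 𝒜 ℳ]
  {D : Type u} [AddCommGroup D] [Module R D] [Module k D] [IsScalarTower k R D]
  (𝒟 : ℤ → AddSubgroup D) [DirectSum.Decomposition 𝒟] [SetLike.GradedSMul 𝒜 𝒟]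
  (β : D →ₗ[k] M →ₗ[k] k) (hD : GrSeg.IsGDual R ℳ 𝒟 β)

include hD in
/-- if the pieces of `M` are finite-dimensional then `M` is the graded dual of `M^*` -/
theorem isGDual_flip (hfin : ∀ n, Module.Finite k (pieceSub 𝒜 ℳ n)) :
    GrSeg.IsGDual R 𝒟 ℳ β.flip := by
  refine ⟨?_, ?_, ?_, ?_⟩
  · intro r x d
    rw [LinearMap.flip_apply, LinearMap.flip_apply, hD.map_smul]
  · intro n x hx m hm d hd
    rw [LinearMap.flip_apply]
    exact hD.vanish m d hd n (by omega) x hx
  · intro n x hx h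
    by_contra hne
    obtain ⟨φ, hφ⟩ := exists_functional_eq_one (k := k) x hne
    obtain ⟨d, hd, hdφ⟩ := hD.exists_eq (-n) φ
    have h1 := hdφ x (by rw [neg_neg]; exact hx)
    have h2 := h d hd
    rw [LinearMap.flip_apply] at h2
    rw [h2, hφ] at h1
    exact zero_ne_one h1
  · intro n g
    haveI := hfin n
    obtain ⟨y, hy, hyd⟩ := exists_repr_of_finite 𝒜 ℳ 𝒟 β hD n g
    exact ⟨y, hy, fun d hd => by rw [LinearMap.flip_apply]; exact hyd d hd⟩

include hD in
/-- separation: a homogeneous `d ∈ D_n` outside a `k`-subspace `W` is separated from `W ∩ D_n` by an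
element of `M_{-n}`, when `M_{-n}` is finite-dimensional -/
theorem exists_sep (n : ℤ) [Module.Finite k (pieceSub 𝒜 ℳ (-n))] (W : Submodule k D) (d : D)
    (hd : d ∈ 𝒟 n) (hdW : d ∉ W) :
    ∃ x ∈ ℳ (-n), (∀ w ∈ W, w ∈ 𝒟 n → β w x = 0) ∧ β d x ≠ 0 := by
  set V := pieceSub 𝒜 ℳ (-n) with hV
  let res : D →ₗ[k] Module.Dual k V := (LinearMap.lcomp k k V.subtype).comp β
  have hres : ∀ (e : D) (v : V), res e v = β e (v : M) := fun e v => rfl
  let Wn : Submodule k D := W ⊓ pieceSub 𝒜 𝒟 n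
  let W' : Submodule k (Module.Dual k V) := Wn.map res
  have hnot : res d ∉ W' := by
    rintro ⟨w, hw, hwd⟩
    have hsub : w - d ∈ 𝒟 n := sub_mem hw.2 hd
    have : w - d = 0 := by
      apply hD.eq_zero n _ hsub
      intro x hx
      have := congrArg (fun F => F (⟨x, hx⟩ : V)) hwd
      simp only [hres] at this
      rw [map_sub, LinearMap.sub_apply, this, sub_self]
    apply hdW
    rw [← sub_eq_zero.mp this]
    exact hw.1
  have hfd : FiniteDimensional k W' := inferInstance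
  rw [← Subspace.dualCoannihilator_dualAnnihilator_eq (W := W'), Submodule.mem_dualAnnihilator] at hnot
  push Not at hnot
  obtain ⟨v, hv, hvd⟩ := hnot
  refine ⟨v, v.2, ?_, ?_⟩
  · intro w hw hwn
    rw [Submodule.mem_dualCoannihilator] at hv
    exact hv (res w) ⟨w, ⟨hw, hwn⟩, rfl⟩
  · exact hvd

end Flip

end Groth.Agent.H98
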