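import Groth.Agent.H98.GrEss2

set_option autoImplicit false
universe u

namespace Groth.Agent.H98

section SelfGr

variable {k : Type u} [Field k] {R : Type u} [CommRing R] [Algebra k R]
  (𝒜 : ℤ → Submodule k R) [GradedAlgebra 𝒜]

/-- the grading of `R` as a family of additive subgroups -/
def selfGr : ℤ → AddSubgroup R := fun n => (𝒜 n).toAddSubgroup

omit [GradedAlgebra 𝒜] in
theorem mem_selfGr {n : ℤ} {x : R} : x ∈ selfGr 𝒜 n ↔ x ∈ 𝒜 n := Iff.rfl

noncomputable instance selfGrDecomposition : DirectSum.Decomposition (selfGr 𝒜) where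
  decompose' := fun x => (DirectSum.decompose 𝒜 x : DirectSum ℤ fun i => 𝒜 i)
  left_inv := DirectSum.Decomposition.left_inv (ℳ := 𝒜)
  right_inv := DirectSum.Decomposition.right_inv (ℳ := 𝒜)

theorem decompose_selfGr (x : R) (n : ℤ) :
    ((DirectSum.decompose (selfGr 𝒜) x n : selfGr 𝒜 n) : R) = (DirectSum.decompose 𝒜 x n : R) := rfl

instance selfGrGradedSMul : SetLike.GradedSMul 𝒜 (selfGr 𝒜) where
  smul_mem := by
    intro i j a b ha hb
    exact SetLike.GradedMul.mul_mem (A := 𝒜) ha hb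

variable {D : Type u} [AddCommGroup D] [Module R D] [Module k D]
  (𝒟 : ℤ → AddSubgroup D) [DirectSum.Decomposition 𝒟]
  (β : D →ₗ[k] R →ₗ[k] k)

theorem isGDual_selfGr (hD : GrSeg.IsGDual R 𝒜 𝒟 β) : GrSeg.IsGDual R (selfGr 𝒜) 𝒟 β :=
  ⟨hD.map_smul, hD.vanish, hD.eq_zero, hD.exists_eq⟩

end SelfGr

section Adj

variable {k : Type u} [Field k] {R : Type u} [CommRing R] [Algebra k R]
  (𝒜 : ℤ → Submodule k R) [GradedAlgebra 𝒜]
  {D : Type u} [AddCommGroup D] [Module R D] [Module k D] [IsScalarTower k R D]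
  (𝒟 : ℤ → AddSubgroup D) [DirectSum.Decomposition 𝒟] [SetLike.GradedSMul 𝒜 𝒟]
  (β : D →ₗ[k] R →ₗ[k] k) (hD : GrSeg.IsGDual R 𝒜 𝒟 β)
  {N : Type u} [AddCommGroup N] [Module R N] [Module k N] [IsScalarTower k R N]
  (𝒩 : ℤ → AddSubgroup N) [DirectSum.Decomposition 𝒩] [SetLike.GradedSMul 𝒜 𝒩]

include hD in
/-- nondegeneracy of the pairing `R^* × R → k` on the `R^*` side -/
theorem nondegD_self (d : D) (h : ∀ r, β d r = 0) : d = 0 :=
  nondegD 𝒜 (selfGr 𝒜) 𝒟 β (isGDual_selfGr 𝒜 𝒟 β hD) d h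

include hD in
theorem eq_of_beta_eq_self (d d' : D) (h : ∀ r, β d r = β d' r) : d = d' := by
  have := nondegD_self 𝒜 𝒟 β hD (d - d') (by intro r; rw [map_sub, LinearMap.sub_apply, h r, sub_self])
  exact sub_eq_zero.mp this

include hD in
/-- representing the functional `r ↦ Λ (r • x)` for homogeneous `x` -/
theorem exists_adj_homogeneous (Λ : N →ₗ[k] k) (s : ℤ) (hΛ : ∀ n, n ≠ s → ∀ x ∈ 𝒩 n, Λ x = 0)
    (g : ℤ) (x : N) (hx : x ∈ 𝒩 g) :
    ∃ d ∈ 𝒟 (g - s), ∀ r : R, β d r = Λ (r • x) := by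
  let G : R →ₗ[k] k :=
    { toFun := fun r => Λ (r • x)
      map_add' := by intro a b; rw [add_smul, map_add]
      map_smul' := by intro c r; rw [smul_assoc, map_smul]; rfl }
  obtain ⟨d, hd, hdG⟩ := hD.exists_eq (g - s) G
  refine ⟨d, hd, ?_⟩
  intro r
  induction r using DirectSum.Decomposition.inductionOn 𝒜 with
  | zero => simp
  | @homogeneous j r =>
    by_cases hj : j = -(g - s)
    · exact hdG r (hj ▸ r.2)
    · rw [hD.vanish (g - s) d hd j hj r r.2]
      have hmem : (r : R) • x ∈ 𝒩 (j + g) := by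
        have := SetLike.GradedSMul.smul_mem (A := 𝒜) (B := 𝒩) r.2 hx
        rwa [vadd_eq_add] at this
      rw [hΛ (j + g) (by omega) _ hmem]
  | add a b ha hb => rw [map_add, add_smul, map_add, ha, hb]

include hD in
theorem exists_adj_elt (Λ : N →ₗ[k] k) (s : ℤ) (hΛ : ∀ n, n ≠ s → ∀ x ∈ 𝒩 n, Λ x = 0) (x : N) :
    ∃ d : D, ∀ r : R, β d r = Λ (r • x) := by
  induction x using DirectSum.Decomposition.inductionOn 𝒩 with
  | zero => exact ⟨0, by intro r; simp⟩
  | @homogeneous g x =>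
    obtain ⟨d, _, hd⟩ := exists_adj_homogeneous 𝒜 𝒟 β hD 𝒩 Λ s hΛ g x x.2
    exact ⟨d, hd⟩
  | add a b ha hb =>
    obtain ⟨d, hd⟩ := ha
    obtain ⟨d', hd'⟩ := hb
    refine ⟨d + d', ?_⟩
    intro r
    rw [map_add, LinearMap.add_apply, hd, hd', smul_add, map_add]

include hD in
/-- the adjunction `Hom_R^{gr}(N, R^*(−s)) ≅ Hom_k(N_s, k)`: a functional on `N` supported in degree `s`
gives a homogeneous `R`-linear map `N → R^*` of degree `-s` -/
theorem exists_adj_hom (Λ : N →ₗ[k] k) (s : ℤ) (hΛ : ∀ n, n ≠ s → ∀ x ∈ 𝒩 n, Λ x = 0) :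
    ∃ h : N →ₗ[R] D, (∀ (g : ℤ) (x : N), x ∈ 𝒩 g → h x ∈ 𝒟 (g - s)) ∧
      ∀ (x : N) (r : R), β (h x) r = Λ (r • x) := by
  classical
  choose F hF using exists_adj_elt 𝒜 𝒟 β hD 𝒩 Λ s hΛ
  have huniq : ∀ (x : N) (d : D), (∀ r, β d r = Λ (r • x)) → d = F x := by
    intro x d hd
    apply eq_of_beta_eq_self 𝒜 𝒟 β hD
    intro r
    rw [hd, hF]
  let h : N →ₗ[R] D :=
    { toFun := F
      map_add' := by
        intro a b
        symm
        apply huniq
        intro r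
        rw [map_add, LinearMap.add_apply, hF, hF, smul_add, map_add]
      map_smul' := by
        intro t x
        symm
        apply huniq
        intro r
        rw [RingHom.id_apply, hD.map_smul, hF, smul_eq_mul, mul_comm, mul_smul] }
  refine ⟨h, ?_, ?_⟩
  · intro g x hx
    obtain ⟨d, hd, hdr⟩ := exists_adj_homogeneous 𝒜 𝒟 β hD 𝒩 Λ s hΛ g x hx
    have : d = F x := huniq x d hdr
    change F x ∈ 𝒟 (g - s)
    rw [← this]
    exact hd
  · intro x r
    exact hF x r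

end Adj

end Groth.Agent.H98
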