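import Groth.Agent.H98.GrSelf

set_option autoImplicit false
universe u

namespace Groth.Agent.H98

section StarInj

variable {k : Type u} [Field k] {R : Type u} [CommRing R] [Algebra k R]
  (𝒜 : ℤ → Submodule k R) [GradedAlgebra 𝒜]
  {D : Type u} [AddCommGroup D] [Module R D] [Module k D] [IsScalarTower k R D]
  (𝒟 : ℤ → AddSubgroup D) [DirectSum.Decomposition 𝒟] [SetLike.GradedSMul 𝒜 𝒟]
  (β : D →ₗ[k] R →ₗ[k] k) (hD : GrSeg.IsGDual R 𝒜 𝒟 β)

section GP

variable {A B : Type u} [AddCommGroup A] [Module R A] [Module k A] [IsScalarTower k R A]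
  (𝒜A : ℤ → AddSubgroup A) [DirectSum.Decomposition 𝒜A] [SetLike.GradedSMul 𝒜 𝒜A]
  [AddCommGroup B] [Module R B] [Module k B] [IsScalarTower k R B]
  (𝒜B : ℤ → AddSubgroup B) [DirectSum.Decomposition 𝒜B] [SetLike.GradedSMul 𝒜 𝒜B]

/-- homogeneous maps commute with the graded projections -/
theorem gp_map_of_isGrHom (f : A →ₗ[R] B) (hf : GrLC.IsGrHom 𝒜A 𝒜B f) (n : ℤ) (a : A) :
    gp 𝒜 𝒜B n (f a) = f (gp 𝒜 𝒜A n a) := by
  have := decompose_map_shift 𝒜A 𝒜B f.toAddMonoidHom 0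
    (fun i x hx => by simpa using hf i x hx) a n
  rw [add_zero] at this
  exact this

end GP

include hD in
/-- the graded dual `R^*` is *injective -/
theorem isStarInj_gdual_self : GrLC.IsStarInj 𝒜 𝒟 := by
  intro A B f hf hfinj g hg
  letI : Module k A.carrier := Module.compHom A.carrier (algebraMap k R)
  haveI : IsScalarTower k R A.carrier := IsScalarTower.of_algebraMap_smul (fun _ _ => rfl)
  letI : Module k B.carrier := Module.compHom B.carrier (algebraMap k R)
  haveI : IsScalarTower k R B.carrier := IsScalarTower.of_algebraMap_smul (fun _ _ => rfl)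
  -- the functional on `A`
  let lamA : A.carrier →ₗ[k] k :=
    { toFun := fun a => β (g a) 1
      map_add' := by intro a b; rw [map_add, map_add, LinearMap.add_apply]
      map_smul' := by
        intro c a
        rw [LinearMap.map_smul_of_tower, map_smul, LinearMap.smul_apply]; rfl }
  let fk : A.carrier →ₗ[k] B.carrier := f.restrictScalars k
  have hfk : LinearMap.ker fk = ⊥ := LinearMap.ker_eq_bot.mpr hfinj
  obtain ⟨ρ, hρ⟩ := LinearMap.exists_leftInverse_of_injective fk hfk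
  have hρ' : ∀ a, ρ (f a) = a := fun a => by
    have := congrArg (fun F => F a) hρ
    simpa [fk] using this
  let lamB : B.carrier →ₗ[k] k := lamA ∘ₗ ρ ∘ₗ gp 𝒜 B.gr 0
  have hlamB : ∀ n, n ≠ 0 → ∀ x ∈ B.gr n, lamB x = 0 := by
    intro n hn x hx
    simp only [lamB, LinearMap.coe_comp, Function.comp_apply]
    rw [gproj_of_mem_ne B.gr _ hx hn, map_zero, map_zero]
  obtain ⟨h, hgr, hβ⟩ := exists_adj_hom 𝒜 𝒟 β hD B.gr lamB 0 hlamB
  refine ⟨h, ?_, ?_⟩
  · intro n x hx
    have := hgr n x hx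
    rwa [sub_zero] at this
  · ext a
    apply eq_of_beta_eq_self 𝒜 𝒟 β hD
    intro r
    rw [LinearMap.comp_apply, hβ]
    simp only [lamB, LinearMap.coe_comp, Function.comp_apply]
    rw [← map_smul, gp_map_of_isGrHom 𝒜 A.gr B.gr f hf, hρ']
    change β (g (gp 𝒜 A.gr 0 (r • a))) 1 = β (g a) r
    rw [← gp_map_of_isGrHom 𝒜 A.gr 𝒟 g hg]
    have h1 : (1 : R) ∈ selfGr 𝒜 (-0) := by
      rw [neg_zero]; exact SetLike.GradedOne.one_mem (A := 𝒜)
    rw [← beta_comp_eq 𝒜 (selfGr 𝒜) 𝒟 β (isGDual_selfGr 𝒜 𝒟 β hD) h1, map_smul, hD.map_smul,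
      smul_eq_mul, mul_one]

end StarInj

end Groth.Agent.H98
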