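import Groth.Agent.H98.GrArtinDual
import Groth.Agent.H98.GrStarInj

set_option autoImplicit false
universe u

namespace Groth.Agent.H98

section Socle

variable {k : Type u} [Field k] {R : Type u} [CommRing R] [Algebra k R]
  (𝒜 : ℤ → Submodule k R) [GradedAlgebra 𝒜]
  {M : Type u} [AddCommGroup M] [Module R M] [Module k M] [IsScalarTower k R M]
  (ℳ : ℤ → AddSubgroup M) [DirectSum.Decomposition ℳ] [SetLike.GradedSMul 𝒜 ℳ]
  (hpos : ∀ n : ℤ, n < 0 → 𝒜 n = ⊥) (h0 : 𝒜 0 = Submodule.span k {(1 : R)})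

/-- the socle: elements killed by all homogeneous elements of positive degree -/
def socle : Submodule k M where
  carrier := {x | ∀ i : ℤ, 0 < i → ∀ s ∈ 𝒜 i, s • x = 0}
  add_mem' := by intro a b ha hb i hi s hs; rw [smul_add, ha i hi s hs, hb i hi s hs, add_zero]
  zero_mem' := by intro i _ s _; rw [smul_zero]
  smul_mem' := by intro c x hx i hi s hs; rw [smul_comm, hx i hi s hs, smul_zero]

omit [GradedAlgebra 𝒜] in
theorem mem_socle {x : M} : x ∈ socle (M := M) 𝒜 ↔ ∀ i : ℤ, 0 < i → ∀ s ∈ 𝒜 i, s • x = 0 := Iff.rfl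

include hpos in
/-- on the socle `R` acts through its degree-zero part -/
theorem smul_eq_of_mem_socle {x : M} (hx : x ∈ socle (M := M) 𝒜) (r : R) :
    r • x = ((DirectSum.decompose 𝒜 r 0 : 𝒜 0) : R) • x := by
  induction r using DirectSum.Decomposition.inductionOn 𝒜 with
  | zero => simp
  | @homogeneous j r =>
    rcases lt_trichotomy j 0 with hj | hj | hj
    · have : (r : R) = 0 := by
        have h : (r : R) ∈ 𝒜 j := r.2
        have h' : (r : R) ∈ (⊥ : Submodule k R) := (hpos j hj) ▸ h
        exact (Submodule.mem_bot k).mp h'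
      rw [this, zero_smul]; simp
    · subst hj
      rw [DirectSum.decompose_of_mem_same 𝒜 r.2]
    · rw [hx j hj r r.2, DirectSum.decompose_of_mem_ne 𝒜 r.2 (by omega), zero_smul]
  | add a b ha hb =>
    rw [add_smul, ha, hb, DirectSum.decompose_add, DirectSum.add_apply, Submodule.coe_add, add_smul]

include hpos h0 in
/-- the socle of an Artinian graded module is finite-dimensional -/
theorem finite_socle [IsArtinian R M] : Module.Finite k (socle (M := M) 𝒜) := by
  apply finite_of_isArtinian_of_span_inf_le (R := R)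
  intro U hU y hy hyV
  clear hyV
  induction hy using Submodule.span_induction with
  | mem u hu => exact hu
  | zero => exact U.zero_mem
  | add a b _ _ ha hb => exact U.add_mem ha hb
  | smul r a _ ha =>
    rw [smul_eq_of_mem_socle 𝒜 hpos (hU ha) r]
    have hr0 : ((DirectSum.decompose 𝒜 r 0 : 𝒜 0) : R) ∈ Submodule.span k {(1 : R)} := by
      rw [← h0]; exact SetLike.coe_mem _
    obtain ⟨c, hc⟩ := Submodule.mem_span_singleton.mp hr0
    rw [← hc, smul_assoc, one_smul]
    exact U.smul_mem c ha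

/-- the socle is a graded subspace -/
theorem gp_mem_socle {x : M} (hx : x ∈ socle (M := M) 𝒜) (n : ℤ) :
    gp 𝒜 ℳ n x ∈ socle (M := M) 𝒜 := by
  intro i hi s hs
  rw [← gp_smul_homog 𝒜 ℳ hs n x, hx i hi s hs, map_zero]

/-- a nonzero homogeneous element of a graded module bounded above has a nonzero homogeneous multiple
in the socle -/
theorem exists_socle_multiple_of_bddAbove (t₁ : ℤ) (ht₁ : ∀ n : ℤ, t₁ ≤ n → ∀ x ∈ ℳ n, x = 0) :
    ∀ (t : ℕ) (n : ℤ) (x : M), x ∈ ℳ n → x ≠ 0 → t₁ - n ≤ t →
      ∃ (r : R) (n' : ℤ), r • x ≠ 0 ∧ r • x ∈ ℳ n' ∧ r • x ∈ socle (M := M) 𝒜 := by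
  intro t
  induction t with
  | zero =>
    intro n x hx hne hle
    exfalso
    exact hne (ht₁ n (by push_cast at hle; omega) x hx)
  | succ t ih =>
    intro n x hx hne hle
    by_cases hall : ∀ i : ℤ, 0 < i → ∀ s ∈ 𝒜 i, s • x = 0
    · exact ⟨1, n, by rwa [one_smul], by rwa [one_smul], by rw [one_smul]; exact hall⟩
    · push Not at hall
      obtain ⟨i, hi, s, hs, hsx⟩ := hall
      have hmem : s • x ∈ ℳ (i + n) := SetLike.GradedSMul.smul_mem (A := 𝒜) (B := ℳ) hs hx
      obtain ⟨r', n', h1, h2, h3⟩ := ih (i + n) (s • x) hmem hsx (by push_cast at hle ⊢; omega)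
      exact ⟨r' * s, n', by rwa [mul_smul], by rwa [mul_smul], by rwa [mul_smul]⟩

/-- a finitely generated subspace has finite degree support -/
theorem exists_finset_support (V : Submodule k M) [Module.Finite k V] :
    ∃ T : Finset ℤ, ∀ y ∈ V, ∀ n, n ∉ T → gp 𝒜 ℳ n y = 0 := by
  classical
  obtain ⟨Z, hZ⟩ := (Submodule.fg_top V).mp (Module.finite_def.mp (inferInstance : Module.Finite k V))
  refine ⟨Z.biUnion (fun z => (DirectSum.decompose ℳ z).support), ?_⟩
  intro y hy n hn
  rw [← hZ] at hy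
  induction hy using Submodule.span_induction with
  | mem z hz =>
    apply gproj_eq_zero_of_notMem_support
    intro hmem
    exact hn (Finset.mem_biUnion.mpr ⟨z, hz, hmem⟩)
  | zero => exact map_zero _
  | add a b _ _ ha hb => rw [map_add, ha, hb, add_zero]
  | smul c a _ ha => rw [map_smul, ha, smul_zero]

end Socle

end Groth.Agent.H98
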