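import Groth.Agent.H98.GrStarInj

set_option autoImplicit false
universe u

namespace Groth.Agent.H98

section Hull

variable {k : Type u} [Field k] {R : Type u} [CommRing R] [Algebra k R]
  (𝒜 : ℤ → Submodule k R) [GradedAlgebra 𝒜]
  (hpos : ∀ n : ℤ, n < 0 → 𝒜 n = ⊥) (h0 : 𝒜 0 = Submodule.span k {(1 : R)})

include hpos in
/-- the irrelevant ideal is contained in the elements without degree-zero component -/
theorem irrelevant_le_geSub_one :
    Ideal.span (⋃ n ∈ Set.Ioi (0 : ℤ), (𝒜 n : Set R)) ≤ geSub 𝒜 (selfGr 𝒜) hpos 1 := by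
  apply Ideal.span_le.mpr
  intro s hs
  simp only [Set.mem_iUnion, Set.mem_Ioi, SetLike.mem_coe, exists_prop] at hs
  obtain ⟨i, hi, hsi⟩ := hs
  have h1 : s ∈ geSub 𝒜 (selfGr 𝒜) hpos i := piece_le_geSub 𝒜 (selfGr 𝒜) hpos (n := i) hsi
  exact geSub_anti 𝒜 (selfGr 𝒜) hpos (by omega) h1

include hpos in
theorem one_notMem_irrelevant (h1 : (1 : R) ≠ 0) :
    (1 : R) ∉ Ideal.span (⋃ n ∈ Set.Ioi (0 : ℤ), (𝒜 n : Set R)) := by
  intro hmem
  have := irrelevant_le_geSub_one 𝒜 hpos hmem 0 (by norm_num)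
  rw [decompose_selfGr, DirectSum.decompose_of_mem_same 𝒜 (SetLike.GradedOne.one_mem (A := 𝒜))] at this
  exact h1 this

variable {D : Type u} [AddCommGroup D] [Module R D] [Module k D] [IsScalarTower k R D]
  (𝒟 : ℤ → AddSubgroup D) [DirectSum.Decomposition 𝒟] [SetLike.GradedSMul 𝒜 𝒟]
  (β : D →ₗ[k] R →ₗ[k] k) (hD : GrSeg.IsGDual R 𝒜 𝒟 β)

include hD h0 in
/-- an element of `(R^*)_0` is determined by its value at `1` -/
theorem eq_of_beta_one_eq (d d' : D) (hd : d ∈ 𝒟 0) (hd' : d' ∈ 𝒟 0) (h : β d 1 = β d' 1) :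
    d = d' := by
  have : d - d' = 0 := by
    apply hD.eq_zero 0 _ (sub_mem hd hd')
    intro x hx
    rw [neg_zero, h0] at hx
    obtain ⟨c, rfl⟩ := Submodule.mem_span_singleton.mp hx
    rw [map_smul, map_sub, LinearMap.sub_apply, h, sub_self, smul_zero]
  exact sub_eq_zero.mp this

include hD hpos h0 in
/-- `R^*` is a *essential extension of `R/m` -/
theorem isStarEss_residue (mR : HomogeneousIdeal 𝒜)
    (hmR : mR.toIdeal = Ideal.span (⋃ n ∈ Set.Ioi (0 : ℤ), (𝒜 n : Set R)))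
    (e : (R ⧸ mR.toIdeal) →ₗ[R] D) (he : Function.Injective e)
    (hegr : GrLC.IsGrHom (GrLC.quotGr 𝒜 mR) 𝒟 e) :
    GrLC.IsStarEss (GrLC.quotGr 𝒜 mR) 𝒟 e := by
  classical
  refine ⟨he, hegr, ?_⟩
  intro P hP hPne
  obtain ⟨p, hpP, hp0⟩ := (Submodule.ne_bot_iff P).mp hPne
  have hcomp : ∃ n, gp 𝒜 𝒟 n p ≠ 0 := by
    by_contra hcon
    push Not at hcon
    apply hp0
    rw [← sum_support_gproj 𝒟 (smul_mem_piece 𝒜 𝒟) p]
    exact Finset.sum_eq_zero (fun n _ => hcon n)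
  obtain ⟨n, hn⟩ := hcomp
  set d := gp 𝒜 𝒟 n p with hd
  have hdP : d ∈ P := hP n hpP
  have hdn : d ∈ 𝒟 n := gproj_mem 𝒟 _ n p
  -- `R` is nontrivial
  have h1R : (1 : R) ≠ 0 := by
    intro h
    apply hn
    rw [← one_smul R d, h, zero_smul]
  -- a multiple in degree zero
  have hx : ∃ x ∈ 𝒜 (-n), β d x ≠ 0 := by
    by_contra hcon
    push Not at hcon
    exact hn (hD.eq_zero n d hdn hcon)
  obtain ⟨x, hxn, hxd⟩ := hx
  set e' := x • d with he'
  have he'P : e' ∈ P := P.smul_mem x hdP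
  have he'0 : e' ∈ 𝒟 0 := by
    have := SetLike.GradedSMul.smul_mem (A := 𝒜) (B := 𝒟) hxn hdn
    rwa [vadd_eq_add, neg_add_cancel] at this
  have he'1 : β e' 1 = β d x := by
    rw [he', hD.map_smul, smul_eq_mul, mul_one]
  -- the image of `1`
  set u := e (Ideal.Quotient.mk mR.toIdeal 1) with hu
  have hu0 : u ∈ 𝒟 0 := by
    apply hegr 0
    refine ⟨1, ?_, rfl⟩
    exact SetLike.GradedOne.one_mem (A := 𝒜)
  have hc : β u 1 ≠ 0 := by
    intro hc
    have hu' : u = 0 := by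
      apply eq_of_beta_one_eq 𝒜 h0 𝒟 β hD u 0 hu0 (zero_mem _)
      rw [hc, map_zero, LinearMap.zero_apply]
    have : Ideal.Quotient.mk mR.toIdeal 1 = 0 := by
      apply he
      rw [map_zero]; exact hu'
    rw [Ideal.Quotient.eq_zero_iff_mem, hmR] at this
    exact one_notMem_irrelevant 𝒜 hpos h1R this
  set c := β e' 1 / β u 1 with hcdef
  have hcu0 : c • u ∈ 𝒟 0 := smul_mem_piece 𝒜 𝒟 c 0 u hu0
  have hee : e' = c • u := by
    apply eq_of_beta_one_eq 𝒜 h0 𝒟 β hD e' (c • u) he'0 hcu0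
    have hcu : β (c • u) 1 = c * β u 1 := by
      rw [map_smul, LinearMap.smul_apply, smul_eq_mul]
    rw [hcu, hcdef, div_mul_cancel₀ _ hc]
  have hrange : e' ∈ LinearMap.range e := by
    refine ⟨algebraMap k R c • Ideal.Quotient.mk mR.toIdeal 1, ?_⟩
    rw [map_smul, algebraMap_smul, hee]
  intro hbot
  have : e' ∈ P ⊓ LinearMap.range e := ⟨he'P, hrange⟩
  rw [hbot, Submodule.mem_bot] at this
  apply hxd
  rw [← he'1, this, map_zero, LinearMap.zero_apply]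

include hD hpos h0 in
/-- `R^*` is the *injective hull of `R/m` -/
theorem isStarInjHull_residue (mR : HomogeneousIdeal 𝒜)
    (hmR : mR.toIdeal = Ideal.span (⋃ n ∈ Set.Ioi (0 : ℤ), (𝒜 n : Set R)))
    (e : (R ⧸ mR.toIdeal) →ₗ[R] D) (he : Function.Injective e)
    (hegr : GrLC.IsGrHom (GrLC.quotGr 𝒜 mR) 𝒟 e) :
    GrLC.IsStarInjHull 𝒜 (GrLC.quotGr 𝒜 mR) 𝒟 e :=
  { toIsStarEss := isStarEss_residue 𝒜 hpos h0 𝒟 β hD mR hmR e he hegr
    starInj := isStarInj_gdual_self 𝒜 𝒟 β hD }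

end Hull

end Groth.Agent.H98
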