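import Mathlib.RingTheory.Spectrum.Prime.FreeLocus
import Mathlib.Algebra.Azumaya.Defs
import Mathlib.Topology.LocallyConstant.Basic
import Mathlib.RingTheory.Finiteness.Projective

set_option autoImplicit false
universe u v w

namespace Groth.Agent.H98

open TensorProduct

/-- For an algebra `A` that is finite projective over a commutative ring `R` with connected
spectrum, an idempotent `e` whose image in a nonzero base change vanishes is zero. -/
theorem idem_eq_zero_of_baseChange {R : Type u} [CommRing R]
    [ConnectedSpace (PrimeSpectrum R)] {A : Type v} [Ring A] [Algebra R A]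
    [Module.Projective R A] [Module.Finite R A]
    (e : A) (he : IsIdempotentElem e) (R' : Type w) [CommRing R'] [Nontrivial R'] [Algebra R R']
    (h0 : (1 : R') ⊗ₜ[R] e = (0 : R' ⊗[R] A)) : e = 0 := by
  -- the projection `a ↦ e * a`
  let π : A →ₗ[R] A := LinearMap.mulLeft R e
  let P : Submodule R A := LinearMap.range π
  let s : A →ₗ[R] P := π.rangeRestrict
  let i : P →ₗ[R] A := P.subtype
  have hsi : s ∘ₗ i = LinearMap.id := by
    ext ⟨p, a, rfl⟩
    simp only [LinearMap.coe_comp, Function.comp_apply, LinearMap.id_coe, id_eq, s, i, π,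
      Submodule.coe_subtype, LinearMap.codRestrict_apply, LinearMap.mulLeft_apply, ← mul_assoc,
      he.eq]
  have : Module.Projective R P := Module.Projective.of_split i s hsi
  have : Module.Finite R P := Module.Finite.range π
  have : Module.FinitePresentation R P := Module.finitePresentation_of_projective R P
  have : Module.Flat R P := inferInstance
  -- base change of `P` is trivial
  have hinj : Function.Injective (LinearMap.lTensor R' i) := by
    have : (LinearMap.lTensor R' s) ∘ₗ (LinearMap.lTensor R' i) = LinearMap.id := by
      rw [← LinearMap.lTensor_comp, hsi, LinearMap.lTensor_id]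
    exact Function.LeftInverse.injective (g := LinearMap.lTensor R' s)
      (fun x => by rw [← LinearMap.comp_apply, this, LinearMap.id_apply])
  have hzero : LinearMap.lTensor R' i = 0 := by
    apply TensorProduct.ext'
    rintro r ⟨p, a, rfl⟩
    simp only [LinearMap.lTensor_tmul, i, π, Submodule.coe_subtype, LinearMap.mulLeft_apply,
      LinearMap.zero_apply]
    have : r ⊗ₜ[R] (e * a) = ((1 : R') ⊗ₜ[R] e) * (r ⊗ₜ[R] a) := by
      rw [Algebra.TensorProduct.tmul_mul_tmul, one_mul]
    rw [this, h0, zero_mul]
  have : Subsingleton (R' ⊗[R] P) := by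
    refine ⟨fun x y => hinj ?_⟩
    rw [hzero, LinearMap.zero_apply, LinearMap.zero_apply]
  obtain ⟨p'⟩ : Nonempty (PrimeSpectrum R') := inferInstance
  have h1 : Module.rankAtStalk (R := R') (R' ⊗[R] P) p' = 0 := by
    rw [Module.rankAtStalk_eq_zero_of_subsingleton]; rfl
  rw [Module.rankAtStalk_baseChange] at h1
  have hconst : Module.rankAtStalk (R := R) P = 0 := by
    ext q
    rw [(Module.isLocallyConstant_rankAtStalk (R := R) (M := P)).apply_eq_of_preconnectedSpace q
      (p'.comap (algebraMap R R')), h1]
    rfl
  have : Subsingleton P := Module.rankAtStalk_eq_zero_iff_subsingleton.mp hconst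
  have : (⟨e, ⟨1, by simp [π]⟩⟩ : P) = 0 := Subsingleton.elim _ _
  exact congrArg Subtype.val this

end Groth.Agent.H98
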