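import Mathlib.RingTheory.Kaehler.Basic
import Mathlib.Algebra.Polynomial.Laurent
import Mathlib.Algebra.CharZero.Defs
import Mathlib.RingTheory.Derivation.Basic

set_option autoImplicit false
universe u

namespace Groth.Agent.H98

open LaurentPolynomial AddMonoidAlgebra

variable (k : Type u) [CommRing k]

/-- `d/dT` on Laurent polynomials, as a linear map. -/
noncomputable def laurentDerivLin : k[T;T⁻¹] →ₗ[k] k[T;T⁻¹] :=
  (coeffLinearEquiv k).symm.toLinearMap ∘ₗ
    (Finsupp.lsum k (fun n : ℤ => (n : k) • Finsupp.lsingle (n - 1))) ∘ₗ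
    (coeffLinearEquiv k).toLinearMap

theorem laurentDerivLin_single (n : ℤ) (a : k) :
    laurentDerivLin k (single n a) = single (n - 1) ((n : k) * a) := by
  simp only [laurentDerivLin, LinearMap.coe_comp, LinearEquiv.coe_coe, Function.comp_apply,
    coeffLinearEquiv_apply, coeff_single, Finsupp.lsum_single, LinearMap.smul_apply,
    Finsupp.lsingle_apply, Finsupp.smul_single, smul_eq_mul, coeffLinearEquiv_symm_apply,
    ofCoeff_single]

theorem laurentDerivLin_leibniz (a b : k[T;T⁻¹]) :
    laurentDerivLin k (a * b) = a • laurentDerivLin k b + b • laurentDerivLin k a := by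
  have h : (LinearMap.mul k k[T;T⁻¹]).compr₂ (laurentDerivLin k) =
      (LinearMap.mul k k[T;T⁻¹]).compl₂ (laurentDerivLin k) +
        ((LinearMap.mul k k[T;T⁻¹]).compl₂ (laurentDerivLin k)).flip := by
    apply lhom_ext'; intro n; apply LinearMap.ext; intro x
    apply lhom_ext'; intro m; apply LinearMap.ext; intro y
    simp only [LinearMap.coe_comp, Function.comp_apply, lsingle_apply, LinearMap.compr₂_apply,
      LinearMap.mul_apply', LinearMap.add_apply, LinearMap.compl₂_apply, LinearMap.flip_apply,
      laurentDerivLin_single, AddMonoidAlgebra.single_mul_single]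
    have e1 : n + (m - 1) = n + m - 1 := by ring
    have e2 : m + (n - 1) = n + m - 1 := by ring
    rw [e1, e2, ← AddMonoidAlgebra.single_add]
    congr 1
    push_cast
    ring
  have := congrArg (fun f => f a b) h
  simpa [smul_eq_mul] using this

/-- `d/dT` as a derivation. -/
noncomputable def laurentDeriv : Derivation k k[T;T⁻¹] k[T;T⁻¹] :=
  Derivation.mk' (laurentDerivLin k) (laurentDerivLin_leibniz k)

theorem laurentDeriv_single (n : ℤ) (a : k) :
    laurentDeriv k (single n a) = single (n - 1) ((n : k) * a) :=
  laurentDerivLin_single k n a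

theorem laurentDeriv_coeff (f : k[T;T⁻¹]) (m : ℤ) :
    (laurentDeriv k f).coeff m = ((m + 1 : ℤ) : k) * f.coeff (m + 1) := by
  induction f using AddMonoidAlgebra.induction_linear with
  | zero => simp
  | add f g hf hg => simp [hf, hg, mul_add]
  | single n a =>
    rw [laurentDeriv_single, coeff_single, coeff_single]
    by_cases h : n = m + 1
    · subst h; simp
    · rw [Finsupp.single_eq_of_ne, Finsupp.single_eq_of_ne, mul_zero]
      · exact fun h' => h h'.symm
      · intro h'; apply h; omega

end Groth.Agent.H98
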