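import Mathlib.RingTheory.Kaehler.Basic
import Mathlib.Algebra.MvPolynomial.Basic
import Mathlib.Algebra.MvPolynomial.PDeriv
import Mathlib.Algebra.MvPolynomial.Derivation
import Mathlib.RingTheory.Ideal.Quotient.Defs
import Mathlib.RingTheory.Ideal.Quotient.Operations
import Mathlib.Algebra.CharZero.Defs
import Mathlib.RingTheory.Derivation.Basic
import Mathlib.RingTheory.Derivation.Lie
import Mathlib.Algebra.Polynomial.Derivation
import Mathlib.Algebra.Polynomial.Derivative

set_option autoImplicit false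
universe u

namespace Groth.Agent.H98

open MvPolynomial

variable (k : Type u) [Field k]

/-- the ideal of the node -/
noncomputable abbrev nodeI : Ideal (MvPolynomial (Fin 2) k) :=
  Ideal.span {(X 0 * X 1 : MvPolynomial (Fin 2) k)}

/-- the ideal `(xy, x^2 - y^2)` -/
noncomputable abbrev nodeJ : Ideal (MvPolynomial (Fin 2) k) :=
  Ideal.span {(X 0 * X 1 : MvPolynomial (Fin 2) k), X 0 ^ 2 - X 1 ^ 2}

theorem nodeI_le_nodeJ : nodeI k ≤ nodeJ k :=
  Ideal.span_mono (by intro z hz; rw [Set.mem_singleton_iff] at hz; rw [hz]; simp)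

/-- the rotation vector field `y ∂/∂x - x ∂/∂y` -/
noncomputable def rotDer : Derivation k (MvPolynomial (Fin 2) k) (MvPolynomial (Fin 2) k) :=
  (X 1 : MvPolynomial (Fin 2) k) • pderiv 0 - (X 0 : MvPolynomial (Fin 2) k) • pderiv 1

theorem rotDer_apply (p : MvPolynomial (Fin 2) k) :
    rotDer k p = X 1 * pderiv 0 p - X 0 * pderiv 1 p := by
  simp [rotDer, Derivation.sub_apply, Derivation.smul_apply]

theorem pderiv_comm (p : MvPolynomial (Fin 2) k) :
    pderiv 0 (pderiv 1 p) = pderiv 1 (pderiv 0 p) := by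
  have h : ⁅(pderiv 0 : Derivation k (MvPolynomial (Fin 2) k) (MvPolynomial (Fin 2) k)),
      (pderiv 1 : Derivation k (MvPolynomial (Fin 2) k) (MvPolynomial (Fin 2) k))⁆ =
      (0 : Derivation k (MvPolynomial (Fin 2) k) (MvPolynomial (Fin 2) k)) := by
    refine MvPolynomial.derivation_ext (R := k) (σ := Fin 2) (A := MvPolynomial (Fin 2) k) ?_
    intro i
    fin_cases i <;> simp [Derivation.commutator_apply, pderiv_X]
  have := congrArg (fun D => D p) h
  simpa [Derivation.commutator_apply, sub_eq_zero] using this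

/-- (twice) the Laplacian at the origin -/
noncomputable def lapl (p : MvPolynomial (Fin 2) k) : k :=
  eval (0 : Fin 2 → k) (pderiv 0 (pderiv 0 p) + pderiv 1 (pderiv 1 p))

theorem lapl_add (p q : MvPolynomial (Fin 2) k) : lapl k (p + q) = lapl k p + lapl k q := by
  simp only [lapl, map_add]; ring

theorem lapl_rot (p : MvPolynomial (Fin 2) k) : lapl k (rotDer k p) = 0 := by
  have h1 : (1 : Fin 2) ≠ 0 := by decide
  have h0 : (0 : Fin 2) ≠ 1 := by decide
  simp only [lapl, rotDer_apply, map_sub, map_add, Derivation.leibniz, pderiv_X_self,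
    pderiv_X_of_ne h1, pderiv_X_of_ne h0, smul_eq_mul, map_mul, eval_X, Pi.zero_apply, zero_mul,
    mul_zero, smul_zero, add_zero, zero_add, map_zero, map_one, mul_one, one_mul, pderiv_one,
    pderiv_comm k p]
  ring

theorem lapl_mem_nodeJ (z : MvPolynomial (Fin 2) k) (hz : z ∈ nodeJ k) : lapl k z = 0 := by
  obtain ⟨u, v, rfl⟩ := Ideal.mem_span_pair.mp hz
  have h1 : (1 : Fin 2) ≠ 0 := by decide
  have h0 : (0 : Fin 2) ≠ 1 := by decide
  simp only [lapl, map_sub, map_add, Derivation.leibniz, Derivation.leibniz_pow, pderiv_X_self,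
    pderiv_X_of_ne h1, pderiv_X_of_ne h0, smul_eq_mul, map_mul, map_pow, eval_X, Pi.zero_apply,
    zero_mul, mul_zero, smul_zero, add_zero, zero_add, map_zero, map_one, mul_one, one_mul,
    pderiv_one, nsmul_eq_mul, Nat.cast_ofNat, pow_one, sub_zero]
  ring

theorem lapl_X0_sq : lapl k (X 0 ^ 2 : MvPolynomial (Fin 2) k) = 2 := by
  have h0 : (0 : Fin 2) ≠ 1 := by decide
  have h2 : (2 : MvPolynomial (Fin 2) k) = C 2 := (map_ofNat C 2).symm
  simp only [lapl, Derivation.leibniz_pow, pderiv_X_of_ne h0, pderiv_X_self, map_zero,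
    add_zero, Nat.add_one_sub_one, pow_one, smul_eq_mul, mul_one, nsmul_eq_mul, Nat.cast_ofNat,
    Derivation.leibniz, map_mul, eval_X, Pi.zero_apply, zero_mul, map_one]
  rw [h2]
  simp only [pderiv_C, mul_zero, add_zero, eval_C]

theorem rotDer_mem_nodeJ (z : MvPolynomial (Fin 2) k) (hz : z ∈ nodeJ k) :
    rotDer k z ∈ nodeJ k := by
  obtain ⟨u, v, rfl⟩ := Ideal.mem_span_pair.mp hz
  have h1 : (1 : Fin 2) ≠ 0 := by decide
  have h0 : (0 : Fin 2) ≠ 1 := by decide
  have : rotDer k (u * (X 0 * X 1) + v * (X 0 ^ 2 - X 1 ^ 2)) =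
      (rotDer k u + 4 * v) * (X 0 * X 1) + (rotDer k v - u) * (X 0 ^ 2 - X 1 ^ 2) := by
    simp only [rotDer_apply, map_sub, map_add, Derivation.leibniz, Derivation.leibniz_pow,
      pderiv_X_self, pderiv_X_of_ne h1, pderiv_X_of_ne h0, smul_eq_mul, nsmul_eq_mul,
      Nat.cast_ofNat, pow_one, mul_zero, mul_one, add_zero, zero_add, smul_zero]
    ring
  rw [this]
  exact Ideal.mem_span_pair.mpr ⟨_, _, rfl⟩

end Groth.Agent.H98
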