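import Groth.Agent.H98.Node
import Mathlib.Algebra.Polynomial.AlgebraMap
import Mathlib.Algebra.MvPolynomial.Eval
import Mathlib.RingTheory.Kaehler.Basic
import Mathlib.Algebra.Polynomial.Derivation

set_option autoImplicit false
universe u

namespace Groth.Agent.H98

open MvPolynomial

variable (k : Type u) [Field k]

/-- restriction to the `x`-axis -/
noncomputable def axX : MvPolynomial (Fin 2) k →ₐ[k] Polynomial k :=
  MvPolynomial.aeval ![Polynomial.X, 0]

/-- restriction to the `y`-axis -/
noncomputable def axY : MvPolynomial (Fin 2) k →ₐ[k] Polynomial k :=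
  MvPolynomial.aeval ![0, Polynomial.X]

/-- `p(x,y) ↦ p(x,0)` -/
noncomputable def exX : MvPolynomial (Fin 2) k →ₐ[k] MvPolynomial (Fin 2) k :=
  (Polynomial.aeval (X 0 : MvPolynomial (Fin 2) k)).comp (axX k)

/-- `p(x,y) ↦ p(0,y)` -/
noncomputable def exY : MvPolynomial (Fin 2) k →ₐ[k] MvPolynomial (Fin 2) k :=
  (Polynomial.aeval (X 1 : MvPolynomial (Fin 2) k)).comp (axY k)

@[simp] theorem axX_X0 : axX k (X 0) = Polynomial.X := by simp [axX]
@[simp] theorem axX_X1 : axX k (X 1) = 0 := by simp [axX]
@[simp] theorem axY_X0 : axY k (X 0) = 0 := by simp [axY]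
@[simp] theorem axY_X1 : axY k (X 1) = Polynomial.X := by simp [axY]
@[simp] theorem exX_X0 : exX k (X 0) = X 0 := by simp [exX]
@[simp] theorem exX_X1 : exX k (X 1) = 0 := by simp [exX]
@[simp] theorem exY_X0 : exY k (X 0) = 0 := by simp [exY]
@[simp] theorem exY_X1 : exY k (X 1) = X 1 := by simp [exY]
@[simp] theorem exX_C (a : k) : exX k (C a) = C a := by
  have := (exX k).commutes a
  simpa [MvPolynomial.algebraMap_eq] using this
@[simp] theorem exY_C (a : k) : exY k (C a) = C a := by
  have := (exY k).commutes a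
  simpa [MvPolynomial.algebraMap_eq] using this

theorem sub_exX_mem (p : MvPolynomial (Fin 2) k) :
    p - exX k p ∈ Ideal.span {(X 1 : MvPolynomial (Fin 2) k)} := by
  induction p using MvPolynomial.induction_on with
  | C a => simp
  | add p q hp hq =>
    have : p + q - exX k (p + q) = (p - exX k p) + (q - exX k q) := by rw [map_add]; ring
    rw [this]; exact Ideal.add_mem _ hp hq
  | mul_X p i hp =>
    fin_cases i
    · have : p * X 0 - exX k (p * X 0) = (p - exX k p) * X 0 := by
        rw [map_mul, exX_X0]; ring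
      simp only [Fin.zero_eta]
      rw [this]; exact Ideal.mul_mem_right _ _ hp
    · have : p * X 1 - exX k (p * X 1) = p * X 1 := by
        rw [map_mul, exX_X1]; ring
      simp only [Fin.mk_one]
      rw [this]; exact Ideal.mul_mem_left _ _ (Ideal.subset_span rfl)

theorem sub_exY_mem (p : MvPolynomial (Fin 2) k) :
    p - exY k p ∈ Ideal.span {(X 0 : MvPolynomial (Fin 2) k)} := by
  induction p using MvPolynomial.induction_on with
  | C a => simp
  | add p q hp hq =>
    have : p + q - exY k (p + q) = (p - exY k p) + (q - exY k q) := by rw [map_add]; ring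
    rw [this]; exact Ideal.add_mem _ hp hq
  | mul_X p i hp =>
    fin_cases i
    · have : p * X 0 - exY k (p * X 0) = p * X 0 := by
        rw [map_mul, exY_X0]; ring
      simp only [Fin.zero_eta]
      rw [this]; exact Ideal.mul_mem_left _ _ (Ideal.subset_span rfl)
    · have : p * X 1 - exY k (p * X 1) = (p - exY k p) * X 1 := by
        rw [map_mul, exY_X1]; ring
      simp only [Fin.mk_one]
      rw [this]; exact Ideal.mul_mem_right _ _ hp

theorem node_decomp (p : MvPolynomial (Fin 2) k) :
    p - exX k p - exY k p + exX k (exY k p) ∈ nodeI k := by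
  induction p using MvPolynomial.induction_on with
  | C a => simp
  | add p q hp hq =>
    have : p + q - exX k (p + q) - exY k (p + q) + exX k (exY k (p + q)) =
        (p - exX k p - exY k p + exX k (exY k p)) + (q - exX k q - exY k q + exX k (exY k q)) := by
      simp only [map_add]; ring
    rw [this]; exact Ideal.add_mem _ hp hq
  | mul_X p i _ =>
    fin_cases i
    · have : p * X 0 - exX k (p * X 0) - exY k (p * X 0) + exX k (exY k (p * X 0)) =
          (p - exX k p) * X 0 := by
        simp only [map_mul, exX_X0, exY_X0, mul_zero, map_zero]; ring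
      simp only [Fin.zero_eta]
      rw [this]
      obtain ⟨q, hq⟩ := Ideal.mem_span_singleton'.mp (sub_exX_mem k p)
      rw [← hq]
      exact Ideal.mem_span_singleton'.mpr ⟨q, by ring⟩
    · have : p * X 1 - exX k (p * X 1) - exY k (p * X 1) + exX k (exY k (p * X 1)) =
          (p - exY k p) * X 1 := by
        simp only [map_mul, exX_X1, exY_X1, mul_zero, map_zero]; ring
      simp only [Fin.mk_one]
      rw [this]
      obtain ⟨q, hq⟩ := Ideal.mem_span_singleton'.mp (sub_exY_mem k p)
      rw [← hq]
      exact Ideal.mem_span_singleton'.mpr ⟨q, by ring⟩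



theorem axX_nodeI (z : MvPolynomial (Fin 2) k) (hz : z ∈ nodeI k) : axX k z = 0 := by
  obtain ⟨q, rfl⟩ := Ideal.mem_span_singleton'.mp hz
  simp

theorem axY_nodeI (z : MvPolynomial (Fin 2) k) (hz : z ∈ nodeI k) : axY k z = 0 := by
  obtain ⟨q, rfl⟩ := Ideal.mem_span_singleton'.mp hz
  simp

/-- descended restriction to x-axis -/
noncomputable def phiX : (MvPolynomial (Fin 2) k ⧸ nodeI k) →ₐ[k] Polynomial k :=
  Ideal.Quotient.liftₐ (nodeI k) (axX k) (axX_nodeI k)

noncomputable def phiY : (MvPolynomial (Fin 2) k ⧸ nodeI k) →ₐ[k] Polynomial k :=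
  Ideal.Quotient.liftₐ (nodeI k) (axY k) (axY_nodeI k)

theorem phiX_mk (p : MvPolynomial (Fin 2) k) : phiX k (Ideal.Quotient.mk (nodeI k) p) = axX k p :=
  Ideal.Quotient.liftₐ_apply (nodeI k) (axX k) (axX_nodeI k) _ ▸ Ideal.Quotient.lift_mk _ _ _

theorem phiY_mk (p : MvPolynomial (Fin 2) k) : phiY k (Ideal.Quotient.mk (nodeI k) p) = axY k p :=
  Ideal.Quotient.liftₐ_apply (nodeI k) (axY k) (axY_nodeI k) _ ▸ Ideal.Quotient.lift_mk _ _ _

/-- general: if `φ : A →ₐ[k] k[X]` and `D a = 0` in Kähler differentials then derivative of `φ a` is zero -/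
theorem derivative_algHom_eq_zero_of_D_eq_zero {A : Type u} [CommRing A] [Algebra k A]
    (φ : A →ₐ[k] Polynomial k) (a : A) (h : KaehlerDifferential.D k A a = 0) :
    Polynomial.derivative (φ a) = 0 := by
  letI : Algebra A (Polynomial k) := φ.toRingHom.toAlgebra
  haveI : IsScalarTower k A (Polynomial k) :=
    IsScalarTower.of_algebraMap_eq (fun x => (φ.commutes x).symm)
  let d : Derivation k A (Polynomial k) :=
    (Polynomial.derivative' (R := k)).compAlgebraMap A
  have h1 : d.liftKaehlerDifferential (KaehlerDifferential.D k A a) = d a :=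
    Derivation.liftKaehlerDifferential_comp_D d a
  rw [h, map_zero] at h1
  have h2 : d a = Polynomial.derivative (φ a) := rfl
  rw [← h2, ← h1]


theorem node_D_eq_zero_iff [CharZero k] (P : MvPolynomial (Fin 2) k ⧸ nodeI k) :
    KaehlerDifferential.D k (MvPolynomial (Fin 2) k ⧸ nodeI k) P = 0 ↔
      P ∈ Set.range (algebraMap k (MvPolynomial (Fin 2) k ⧸ nodeI k)) := by
  constructor
  · intro h
    obtain ⟨p, rfl⟩ := Ideal.Quotient.mk_surjective P
    have hx := derivative_algHom_eq_zero_of_D_eq_zero k (phiX k) _ h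
    have hy := derivative_algHom_eq_zero_of_D_eq_zero k (phiY k) _ h
    rw [phiX_mk] at hx
    rw [phiY_mk] at hy
    have hx' := Polynomial.eq_C_of_derivative_eq_zero hx
    have hy' := Polynomial.eq_C_of_derivative_eq_zero hy
    have e1 : exX k p = C ((axX k p).coeff 0) := by
      rw [exX, AlgHom.comp_apply, hx', Polynomial.aeval_C, MvPolynomial.algebraMap_eq]
      simp
    have e2 : exY k p = C ((axY k p).coeff 0) := by
      rw [exY, AlgHom.comp_apply, hy', Polynomial.aeval_C, MvPolynomial.algebraMap_eq]
      simp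
    have e3 : exX k (exY k p) = C ((axY k p).coeff 0) := by rw [e2, exX_C]
    have hmem := node_decomp k p
    rw [e3, e2, e1] at hmem
    refine ⟨(axX k p).coeff 0, ?_⟩
    have : p - C ((axX k p).coeff 0) ∈ nodeI k := by
      have e : p - C ((axX k p).coeff 0) =
          p - C ((axX k p).coeff 0) - C ((axY k p).coeff 0) + C ((axY k p).coeff 0) := by ring
      rw [e]; exact hmem
    have h2 := (Ideal.Quotient.eq (I := nodeI k)).mpr this
    rw [h2]
    rfl
  · rintro ⟨a, rfl⟩
    exact Derivation.map_algebraMap _ a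

end Groth.Agent.H98
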