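import Groth.Agent.H98.Node

set_option autoImplicit false
universe u

namespace Groth.Agent.H98

open MvPolynomial

variable (k : Type u) [Field k]

theorem node_D_not_surjective [CharZero k] :
    ¬ Function.Surjective
      (KaehlerDifferential.D k (MvPolynomial (Fin 2) k ⧸ nodeI k)) := by
  intro hsurj
  let f : (MvPolynomial (Fin 2) k ⧸ nodeI k) →ₐ[k] (MvPolynomial (Fin 2) k ⧸ nodeJ k) :=
    Ideal.Quotient.factorₐ k (nodeI_le_nodeJ k)
  letI : Algebra (MvPolynomial (Fin 2) k ⧸ nodeI k) (MvPolynomial (Fin 2) k ⧸ nodeJ k) :=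
    f.toRingHom.toAlgebra
  haveI : IsScalarTower k (MvPolynomial (Fin 2) k ⧸ nodeI k) (MvPolynomial (Fin 2) k ⧸ nodeJ k) :=
    IsScalarTower.of_algebraMap_eq (fun r => (f.commutes r).symm)
  have hd : ∀ x, (Ideal.Quotient.mkₐ k (nodeJ k)) x = 0 →
      (Ideal.Quotient.mkₐ k (nodeJ k)) (rotDer k x) = 0 := by
    intro x hx
    rw [Ideal.Quotient.mkₐ_eq_mk, Ideal.Quotient.eq_zero_iff_mem] at hx ⊢
    exact rotDer_mem_nodeJ k x hx
  let RB : Derivation k (MvPolynomial (Fin 2) k ⧸ nodeJ k) (MvPolynomial (Fin 2) k ⧸ nodeJ k) :=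
    Derivation.liftOfSurjective (f := Ideal.Quotient.mkₐ k (nodeJ k))
      (Ideal.Quotient.mkₐ_surjective k _) hd
  have hRB : ∀ p, RB (Ideal.Quotient.mk (nodeJ k) p) = Ideal.Quotient.mk (nodeJ k) (rotDer k p) :=
    fun p => Derivation.liftOfSurjective_apply (f := Ideal.Quotient.mkₐ k (nodeJ k))
      (Ideal.Quotient.mkₐ_surjective k _) hd p
  let δ : Derivation k (MvPolynomial (Fin 2) k ⧸ nodeI k) (MvPolynomial (Fin 2) k ⧸ nodeJ k) :=
    RB.compAlgebraMap (MvPolynomial (Fin 2) k ⧸ nodeI k)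
  have hδ : ∀ p, δ (Ideal.Quotient.mk (nodeI k) p) = Ideal.Quotient.mk (nodeJ k) (rotDer k p) := by
    intro p
    rw [← hRB]
    rfl
  obtain ⟨P0, hP0⟩ := hsurj ((Ideal.Quotient.mk (nodeI k) (X 0)) •
    KaehlerDifferential.D k _ (Ideal.Quotient.mk (nodeI k) (X 1)))
  obtain ⟨p, rfl⟩ := Ideal.Quotient.mk_surjective P0
  have h1 := congrArg δ.liftKaehlerDifferential hP0
  rw [Derivation.liftKaehlerDifferential_comp_D, map_smul,
    Derivation.liftKaehlerDifferential_comp_D, hδ, hδ] at h1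
  have h2 : (Ideal.Quotient.mk (nodeI k) (X 0)) • (Ideal.Quotient.mk (nodeJ k)) ((rotDer k) (X 1)) =
      Ideal.Quotient.mk (nodeJ k) (X 0 * rotDer k (X 1)) := by
    rw [map_mul]; rfl
  rw [h2, Ideal.Quotient.eq] at h1
  have h3 := lapl_mem_nodeJ k _ h1
  have h10 : (1 : Fin 2) ≠ 0 := by decide
  have h01 : (0 : Fin 2) ≠ 1 := by decide
  have h4 : X 0 * rotDer k (X 1 : MvPolynomial (Fin 2) k) = - (X 0 ^ 2) := by
    rw [rotDer_apply, pderiv_X_self, pderiv_X_of_ne h10]; ring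
  rw [h4, sub_neg_eq_add, lapl_add, lapl_rot, lapl_X0_sq, zero_add] at h3
  exact two_ne_zero h3

end Groth.Agent.H98
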