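import Mathlib.RingTheory.Unramified.Field
import Mathlib.RingTheory.Unramified.Pi
import Mathlib.RingTheory.Artinian.Module
import Mathlib.RingTheory.Artinian.Ring
import Mathlib.LinearAlgebra.TensorProduct.RightExactness
import Mathlib.FieldTheory.IsAlgClosed.Basic
import Mathlib.RingTheory.Nilpotent.Lemmas

set_option autoImplicit false
universe u v w

namespace Groth.Agent.H98

open TensorProduct

theorem formallyUnramified_of_reduced_finite (k : Type u) [Field k] [IsAlgClosed k]
    (C : Type v) [CommRing C] [Algebra k C] [Module.Finite k C] [IsReduced C] :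
    Algebra.FormallyUnramified k C := by
  have : IsArtinianRing C := isArtinian_of_tower k inferInstance
  rw [Algebra.FormallyUnramified.iff_of_equiv ((IsArtinianRing.equivPi C).restrictScalars k),
    Algebra.FormallyUnramified.pi_iff]
  intro m
  let : Field (C ⧸ m.asIdeal) := Ideal.Quotient.field m.asIdeal
  have hsurj : Function.Surjective (algebraMap k (C ⧸ m.asIdeal)) :=
    (IsAlgClosed.algebraMap_bijective_of_isIntegral (k := k) (K := C ⧸ m.asIdeal)).2
  exact Algebra.FormallyUnramified.of_surjective (Algebra.ofId k (C ⧸ m.asIdeal)) hsurj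

theorem ker_map_quotient_nilradical (k : Type u) [Field k]
    [IsAlgClosed k] (A : Type v) [CommRing A] [Algebra k A] [Module.Finite k A]
    (B : Type w) [CommRing B] [Algebra k B] [Module.Finite k B] :
    RingHom.ker (Algebra.TensorProduct.map (Ideal.Quotient.mkₐ k (nilradical A))
      (Ideal.Quotient.mkₐ k (nilradical B))).toRingHom = nilradical (A ⊗[k] B) := by
  have : IsReduced (A ⧸ nilradical A) :=
    (Ideal.isRadical_iff_quotient_reduced _).mp (show (nilradical A).IsRadical from Ideal.radical_isRadical ⊥)
  have : IsReduced (B ⧸ nilradical B) :=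
    (Ideal.isRadical_iff_quotient_reduced _).mp (show (nilradical B).IsRadical from Ideal.radical_isRadical ⊥)
  have : Algebra.FormallyUnramified k (A ⧸ nilradical A) :=
    formallyUnramified_of_reduced_finite k _
  have : Algebra.FormallyUnramified k (B ⧸ nilradical B) :=
    formallyUnramified_of_reduced_finite k _
  have : Algebra.FormallyUnramified k ((A ⧸ nilradical A) ⊗[k] (B ⧸ nilradical B)) :=
    Algebra.FormallyUnramified.comp k (A ⧸ nilradical A) _
  have : IsReduced ((A ⧸ nilradical A) ⊗[k] (B ⧸ nilradical B)) :=
    Algebra.FormallyUnramified.isReduced_of_field k _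
  apply le_antisymm
  · have hf : Function.Surjective (Ideal.Quotient.mkₐ k (nilradical A)) :=
      Ideal.Quotient.mkₐ_surjective k _
    have hg : Function.Surjective (Ideal.Quotient.mkₐ k (nilradical B)) :=
      Ideal.Quotient.mkₐ_surjective k _
    have hle : Ideal.map (Algebra.TensorProduct.includeLeft : A →ₐ[k] A ⊗[k] B)
          (RingHom.ker (Ideal.Quotient.mkₐ k (nilradical A))) ⊔
        Ideal.map (Algebra.TensorProduct.includeRight : B →ₐ[k] A ⊗[k] B)
          (RingHom.ker (Ideal.Quotient.mkₐ k (nilradical B))) ≤ nilradical (A ⊗[k] B) := by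
      rw [sup_le_iff, Ideal.map_le_iff_le_comap, Ideal.map_le_iff_le_comap]
      constructor
      · intro a ha
        rw [RingHom.mem_ker, Ideal.Quotient.mkₐ_eq_mk, Ideal.Quotient.eq_zero_iff_mem] at ha
        rw [Ideal.mem_comap, mem_nilradical]
        exact (mem_nilradical.mp ha).map _
      · intro b hb
        rw [RingHom.mem_ker, Ideal.Quotient.mkₐ_eq_mk, Ideal.Quotient.eq_zero_iff_mem] at hb
        rw [Ideal.mem_comap, mem_nilradical]
        exact (mem_nilradical.mp hb).map _
    intro x hx
    have hx' : x ∈ RingHom.ker (Algebra.TensorProduct.map (Ideal.Quotient.mkₐ k (nilradical A))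
        (Ideal.Quotient.mkₐ k (nilradical B))) := by
      rw [RingHom.mem_ker] at hx ⊢; exact hx
    rw [Algebra.TensorProduct.map_ker _ _ hf hg] at hx'
    exact hle hx'
  · intro x hx
    rw [mem_nilradical] at hx
    rw [RingHom.mem_ker]
    exact (hx.map _).eq_zero

end Groth.Agent.H98
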