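import Groth.Agent.H98.SegreFinite
import Groth.Agent.H98.SegreRingNoeth
import Mathlib.RingTheory.Flat.Basic
import Mathlib.LinearAlgebra.Quotient.Basic
import Mathlib.LinearAlgebra.Dimension.Finrank
import Mathlib.RingTheory.GradedAlgebra.Basic
import Mathlib.RingTheory.GradedAlgebra.Homogeneous.Ideal
import Mathlib.Algebra.Algebra.Operations

set_option autoImplicit false
universe u

namespace Groth.Agent.H98

open scoped TensorProduct

section Std

variable {k : Type u} [Field k] {R : Type u} [CommRing R] [Algebra k R]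
  (𝒜 : ℤ → Submodule k R) [GradedAlgebra 𝒜]

/-- in a ring whose irrelevant ideal is generated in degree one, `R_{m+1} = R_1 R_m` -/
theorem mem_mul_of_std
    (hstd : Ideal.span (⋃ n ∈ Set.Ioi (0 : ℤ), (𝒜 n : Set R)) = Ideal.span ((𝒜 1 : Submodule k R) : Set R))
    (m : ℤ) (hm : 0 ≤ m) (x : R) (hx : x ∈ 𝒜 (m + 1)) : x ∈ 𝒜 1 * 𝒜 m := by
  have hx' : x ∈ Ideal.span ((𝒜 1 : Submodule k R) : Set R) := by
    rw [← hstd]
    apply Ideal.subset_span
    simp only [Set.mem_iUnion, Set.mem_Ioi, SetLike.mem_coe, exists_prop]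
    exact ⟨m + 1, by omega, hx⟩
  have key : ∀ z ∈ Ideal.span ((𝒜 1 : Submodule k R) : Set R),
      ((DirectSum.decompose 𝒜 z (m + 1) : 𝒜 (m + 1)) : R) ∈ 𝒜 1 * 𝒜 m := by
    intro z hz
    induction hz using Submodule.closure_induction with
    | zero => simp
    | add u v _ _ hu hv =>
      rw [DirectSum.decompose_add, DirectSum.add_apply, Submodule.coe_add]
      exact Submodule.add_mem _ hu hv
    | smul_mem c y hy =>
      let h : R →+ R := AddMonoidHom.mulRight y
      have hh : ∀ i, ∀ w ∈ 𝒜 i, h w ∈ 𝒜 (i + 1) := by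
        intro i w hw
        exact SetLike.GradedMul.mul_mem hw hy
      have := decompose_map_shift 𝒜 𝒜 h 1 hh c m
      have e : c • y = h c := by simp [h, smul_eq_mul]
      rw [e, this]
      change ((DirectSum.decompose 𝒜 c m : 𝒜 m) : R) * y ∈ _
      rw [mul_comm ((DirectSum.decompose 𝒜 c m : 𝒜 m) : R) y]
      exact Submodule.mul_mem_mul hy (SetLike.coe_mem _)
  have := key x hx'
  rwa [DirectSum.decompose_of_mem_same 𝒜 hx] at this

end Std


section Gen

variable {k : Type u} [Field k] {R S T : Type u} [CommRing R] [CommRing S] [CommRing T]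
  [Algebra k R] [Algebra k S] [Algebra k T]
  {P : Type u} [AddCommGroup P] [Module T P] [Module k P] [IsScalarTower k T P]

theorem segrePiece_eq_bot_of_right {M N : Type u} [AddCommGroup M] [Module k M] [AddCommGroup N]
    [Module k N] (ℳ : ℤ → Submodule k M) (𝒩 : ℤ → Submodule k N) (n : ℤ) (h : 𝒩 n = ⊥) :
    GrSeg.segrePiece k ℳ 𝒩 n = ⊥ := by
  rw [GrSeg.segrePiece, Submodule.span_eq_bot]
  rintro x ⟨a, -, b, hb, rfl⟩
  rw [h, Submodule.mem_bot] at hb
  rw [hb, TensorProduct.tmul_zero]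

theorem segre_shift_finrank
    (𝒜 : ℤ → Submodule k R) [GradedAlgebra 𝒜]
    (ℬ : ℤ → Submodule k S) [GradedAlgebra ℬ] (hposS : ∀ n : ℤ, n < 0 → ℬ n = ⊥)
    (h0S : ℬ 0 = Submodule.span k {(1 : S)}) [Nontrivial S]
    (𝒯 : ℤ → Submodule k T) [GradedAlgebra 𝒯] (ψ : T →ₐ[k] R ⊗[k] S)
    (hT : GrSeg.IsSegreRing 𝒜 ℬ 𝒯 ψ)
    (hstdR : Ideal.span (⋃ n ∈ Set.Ioi (0 : ℤ), (𝒜 n : Set R)) = Ideal.span ((𝒜 1 : Submodule k R) : Set R))
    (hstdS : Ideal.span (⋃ n ∈ Set.Ioi (0 : ℤ), (ℬ n : Set S)) = Ideal.span ((ℬ 1 : Submodule k S) : Set S))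
    (mT : Ideal T) (hmT : mT = Ideal.span (⋃ n ∈ Set.Ioi (0 : ℤ), (𝒯 n : Set T)))
    (a b : ℤ) (hab : b ≤ a)
    (ℳ : ℤ → Submodule k R) (hℳ : ∀ n, ℳ n = 𝒜 (n + a))
    (𝒩 : ℤ → Submodule k S) (h𝒩 : ∀ n, 𝒩 n = ℬ (n + b))
    [SetLike.GradedSMul 𝒜 ℳ] [SetLike.GradedSMul ℬ 𝒩]
    (𝒬 : ℤ → AddSubgroup P) [DirectSum.Decomposition 𝒬] (φ : P →ₗ[k] R ⊗[k] S)
    (hP : GrSeg.IsSegreMod ψ ℳ 𝒩 𝒬 φ) :
    Module.finrank k (P ⧸ (mT • (⊤ : Submodule T P))) = Module.finrank k (𝒜 (a - b)) := by
  classical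
  -- basic facts on pieces
  have map_mem : ∀ n q, q ∈ 𝒬 n → φ q ∈ GrSeg.segrePiece k ℳ 𝒩 n := by
    intro n q hq
    have : φ q ∈ φ '' (𝒬 n : Set P) := ⟨q, hq, rfl⟩
    rw [hP.image_piece n] at this
    exact this
  have mem_of_map : ∀ n q, φ q ∈ GrSeg.segrePiece k ℳ 𝒩 n → q ∈ 𝒬 n := by
    intro n q hq
    have : φ q ∈ φ '' (𝒬 n : Set P) := by rw [hP.image_piece n]; exact hq
    obtain ⟨q', hq', e⟩ := this
    rw [← hP.injective e]; exact hq'
  have hkQ : ∀ (c : k) (i : ℤ) (x : P), x ∈ 𝒬 i → c • x ∈ 𝒬 i := by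
    intro c i x hx
    apply mem_of_map
    rw [map_smul]
    exact Submodule.smul_mem _ c (map_mem i x hx)
  have hA : ∀ n : ℤ, n < -b → ∀ q ∈ 𝒬 n, q = 0 := by
    intro n hn q hq
    have h1 := map_mem n q hq
    rw [segrePiece_eq_bot_of_right ℳ 𝒩 n (by rw [h𝒩]; exact hposS _ (by omega)),
      Submodule.mem_bot] at h1
    exact hP.injective (h1.trans (map_zero φ).symm)
  have hsmul : ∀ (c : ℤ) (t : T), t ∈ 𝒯 c → ∀ (n : ℤ) (q : P), q ∈ 𝒬 n → t • q ∈ 𝒬 (n + c) := by
    intro c t ht n q hq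
    apply mem_of_map
    rw [hP.map_smul]
    apply act_segrePiece_mem 𝒜 ℬ ℳ 𝒩
    · rw [← hT.2 c]; exact ⟨t, ht, rfl⟩
    · exact map_mem n q hq
  set θ : P →ₗ[k] P := gproj 𝒬 hkQ (-b) with hθ
  -- elements of positive pieces lie in `mT • ⊤`
  have hB : ∀ n : ℤ, -b < n → ∀ q ∈ 𝒬 n, q ∈ mT • (⊤ : Submodule T P) := by
    intro n hn q hq
    let G : Submodule k (R ⊗[k] S) :=
      Submodule.map φ ((mT • (⊤ : Submodule T P)).restrictScalars k)
    have hG : ∀ x ∈ 𝒜 1 * 𝒜 (n - 1 + a), ∀ y ∈ ℬ 1 * ℬ (n - 1 + b), x ⊗ₜ[k] y ∈ G := by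
      intro x hx
      refine Submodule.mul_induction_on hx ?_ ?_
      · intro r hr x' hx' y hy
        refine Submodule.mul_induction_on hy ?_ ?_
        · intro s hs y' hy'
          have h1 : r ⊗ₜ[k] s ∈ GrSeg.segrePiece k 𝒜 ℬ 1 := Submodule.subset_span ⟨r, hr, s, hs, rfl⟩
          rw [← hT.2 1] at h1
          obtain ⟨t, ht, htψ⟩ := h1
          have h2 : x' ⊗ₜ[k] y' ∈ GrSeg.segrePiece k ℳ 𝒩 (n - 1) :=
            Submodule.subset_span ⟨x', by rw [hℳ]; exact hx', y', by rw [h𝒩]; exact hy', rfl⟩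
          have h2' : x' ⊗ₜ[k] y' ∈ φ '' (𝒬 (n - 1) : Set P) := by
            rw [hP.image_piece (n - 1)]; exact h2
          obtain ⟨q', -, hq'⟩ := h2'
          refine ⟨t • q', ?_, ?_⟩
          · refine Submodule.smul_mem_smul ?_ Submodule.mem_top
            rw [hmT]
            apply Ideal.subset_span
            simp only [Set.mem_iUnion, Set.mem_Ioi, SetLike.mem_coe, exists_prop]
            exact ⟨1, by omega, ht⟩
          · have htψ' : ψ t = r ⊗ₜ[k] s := htψ
            rw [hP.map_smul, hq', htψ', act_self_eq_mul, Algebra.TensorProduct.tmul_mul_tmul]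
        · intro y1 y2 h1 h2
          rw [TensorProduct.tmul_add]; exact Submodule.add_mem _ h1 h2
      · intro x1 x2 h1 h2 y hy
        rw [TensorProduct.add_tmul]; exact Submodule.add_mem _ (h1 y hy) (h2 y hy)
    have hle : GrSeg.segrePiece k ℳ 𝒩 n ≤ G := by
      apply Submodule.span_le.mpr
      rintro e ⟨x, hx, y, hy, rfl⟩
      apply hG
      · apply mem_mul_of_std 𝒜 hstdR (n - 1 + a) (by omega)
        rw [hℳ] at hx
        rwa [show n - 1 + a + 1 = n + a by ring]
      · apply mem_mul_of_std ℬ hstdS (n - 1 + b) (by omega)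
        rw [h𝒩] at hy
        rwa [show n - 1 + b + 1 = n + b by ring]
    obtain ⟨q', hq', e⟩ := hle (map_mem n q hq)
    rw [← hP.injective e]
    exact hq'
  -- characterisation of `mT • ⊤`
  have hC : ∀ p : P, p ∈ mT • (⊤ : Submodule T P) ↔ θ p = 0 := by
    intro p
    constructor
    · intro hp
      refine Submodule.smul_induction_on hp ?_ ?_
      · intro r hr x _
        rw [hmT] at hr
        have : ∀ x : P, θ (r • x) = 0 := by
          induction hr using Submodule.span_induction with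
          | mem r hr =>
            simp only [Set.mem_iUnion, Set.mem_Ioi, SetLike.mem_coe, exists_prop] at hr
            obtain ⟨c, hc, hrc⟩ := hr
            intro x
            have := decompose_map_shift 𝒬 𝒬 (DistribSMul.toAddMonoidHom P r) c
              (fun i w hw => hsmul c r hrc i w hw) x (-b - c)
            rw [show -b - c + c = -b by ring] at this
            rw [hθ, gproj_apply]
            change ((DirectSum.decompose 𝒬 (r • x) (-b) : 𝒬 (-b)) : P) = 0
            have e : (DistribSMul.toAddMonoidHom P r) x = r • x := rfl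
            rw [e] at this
            rw [this]
            have hz := hA (-b - c) (by omega) _ (SetLike.coe_mem (DirectSum.decompose 𝒬 x (-b - c)))
            rw [hz]
            exact map_zero _
          | zero => intro x; rw [zero_smul, map_zero]
          | add r1 r2 _ _ h1 h2 => intro x; rw [add_smul, map_add, h1, h2, add_zero]
          | smul s r1 _ h1 =>
            intro x
            rw [smul_eq_mul, mul_comm, mul_smul]
            exact h1 (s • x)
        exact this x
      · intro x y hx hy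
        rw [map_add, hx, hy, add_zero]
    · intro hp
      rw [← sum_support_gproj 𝒬 hkQ p]
      apply Submodule.sum_mem
      intro i _
      rcases lt_trichotomy i (-b) with h | h | h
      · rw [hA i h _ (gproj_mem 𝒬 hkQ i p)]; exact Submodule.zero_mem _
      · rw [h]; rw [hθ] at hp; rw [hp]; exact Submodule.zero_mem _
      · exact hB i h _ (gproj_mem 𝒬 hkQ i p)
  -- the comparison map
  set θ' : P →ₗ[k] R ⊗[k] S := φ ∘ₗ θ with hθ'
  have hker : (mT • (⊤ : Submodule T P)).restrictScalars k = LinearMap.ker θ' := by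
    ext p
    rw [Submodule.restrictScalars_mem, hC, LinearMap.mem_ker, hθ', LinearMap.comp_apply]
    constructor
    · intro h; rw [h, map_zero]
    · intro h; exact hP.injective (h.trans (map_zero φ).symm)
  let incl : R →ₗ[k] R ⊗[k] S :=
    (Algebra.TensorProduct.includeLeft (R := k) (S := k) (A := R) (B := S)).toLinearMap
  have hincl : Function.Injective incl :=
    Algebra.TensorProduct.includeLeft_injective (R := k) (S := k) (A := R) (B := S)
      (FaithfulSMul.algebraMap_injective k S)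
  have hpiece : GrSeg.segrePiece k ℳ 𝒩 (-b) = Submodule.map incl (𝒜 (a - b)) := by
    apply le_antisymm
    · apply Submodule.span_le.mpr
      rintro e ⟨x, hx, y, hy, rfl⟩
      rw [hℳ, show -b + a = a - b by ring] at hx
      rw [h𝒩, show -b + b = 0 by ring, h0S] at hy
      obtain ⟨c, rfl⟩ := Submodule.mem_span_singleton.mp hy
      refine ⟨c • x, Submodule.smul_mem _ c hx, ?_⟩
      change (c • x) ⊗ₜ[k] (1 : S) = x ⊗ₜ[k] (c • (1 : S))
      rw [TensorProduct.smul_tmul]
    · rintro e ⟨x, hx, rfl⟩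
      refine Submodule.subset_span ⟨x, ?_, 1, ?_, rfl⟩
      · rw [hℳ, show -b + a = a - b by ring]; exact hx
      · rw [h𝒩, show -b + b = 0 by ring]; exact SetLike.GradedOne.one_mem
  have hrange : LinearMap.range θ' = Submodule.map incl (𝒜 (a - b)) := by
    rw [← hpiece]
    ext e
    constructor
    · rintro ⟨p, rfl⟩
      exact map_mem (-b) _ (gproj_mem 𝒬 hkQ (-b) p)
    · intro he
      have : e ∈ φ '' (𝒬 (-b) : Set P) := by rw [hP.image_piece (-b)]; exact he
      obtain ⟨q, hq, rfl⟩ := this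
      refine ⟨q, ?_⟩
      rw [hθ', LinearMap.comp_apply, hθ, gproj_of_mem_same 𝒬 hkQ hq]
  -- the chain of equivalences
  have e1 := (Submodule.Quotient.restrictScalarsEquiv k (mT • (⊤ : Submodule T P))).symm
  have e2 := Submodule.quotEquivOfEq _ _ hker
  have e3 := θ'.quotKerEquivRange
  have e4 := LinearEquiv.ofEq _ _ hrange
  have e5 := (Submodule.equivMapOfInjective incl hincl (𝒜 (a - b))).symm
  exact ((((e1.trans e2).trans e3).trans e4).trans e5).finrank_eq

end Gen

end Groth.Agent.H98
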